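import Cfsg.Agent.Lib.CosetTable.Check

/-!
Kernel-friendly checker for coset table certificates with arbitrary generators.

Letters `0 .. 17` come in inverse pairs `2t, 2t + 1`; every other label stands for the identity.
A fact `(u, l, v)` reads "node `u` times `l` is node `v`", up to the subgroup on the left.
-/

namespace Cfsg.Agent.Lib.LyH

open CosetTable (T force andB iteB eqL allL rangeAll natAt at16 at24)

/-- entry of a list of words -/
noncomputable def wordAt (l : List (List Nat)) : Nat → List Nat :=
  List.rec (motive := fun _ => Nat → List Nat) (fun _ => [])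
    (fun x _ ih i => Nat.rec (motive := fun _ => List Nat) x (fun m _ => ih m) i) l

/-- the first `j` letters -/
noncomputable def takeW (l : List Nat) : Nat → List Nat :=
  List.rec (motive := fun _ => Nat → List Nat) (fun _ => [])
    (fun x _ ih i => Nat.rec (motive := fun _ => List Nat) [] (fun m _ => x :: ih m) i) l

/-- all but the first `j` letters -/
noncomputable def dropW (l : List Nat) : Nat → List Nat :=
  List.rec (motive := fun _ => Nat → List Nat) (fun _ => [])
    (fun x xs ih i => Nat.rec (motive := fun _ => List Nat) (x :: xs) (fun m _ => ih m) i) l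

/-- the inverse letter -/
noncomputable def invL (a : Nat) : Nat := iteB (Nat.blt a 18) (Nat.xor a 1) a

/-- the inverse word, read from an accumulator -/
noncomputable def invW (l : List Nat) : List Nat → List Nat :=
  List.rec (motive := fun _ => List Nat → List Nat) (fun acc => acc)
    (fun x _ ih acc => ih (invL x :: acc)) l

/-- the words `[l⁻¹, l]` -/
def cancels : List (List Nat) :=
  [[1, 0], [0, 1], [3, 2], [2, 3], [5, 4], [4, 5], [7, 6], [6, 7], [9, 8], [8, 9],
   [11, 10], [10, 11], [13, 12], [12, 13], [15, 14], [14, 15], [17, 16], [16, 17]]

/-- relators, subgroup words, facts and definitions of nodes -/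
structure Cert where
  rels : List (List Nat)
  subs : List (List Nat)
  facts : T
  defs : T

namespace Cert

variable (C : Cert)

noncomputable def fU (i : Nat) : Nat := Nat.shiftRight (C.facts.get i) 26
noncomputable def fV (i : Nat) : Nat := Nat.land (Nat.shiftRight (C.facts.get i) 5) 2097151
noncomputable def fL (i : Nat) : Nat := Nat.land (C.facts.get i) 31
noncomputable def dU (v : Nat) : Nat := Nat.shiftRight (C.defs.get v) 5
noncomputable def dG (v : Nat) : Nat := Nat.land (C.defs.get v) 31

/-- follow a path of `m` earlier facts read from `S`; it must spell `w` and end at `tgt` -/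
noncomputable def follow (i tgt : Nat) (m : Nat) : Nat → Nat → List Nat → Bool :=
  Nat.rec (motive := fun _ => Nat → Nat → List Nat → Bool)
    (fun _ cur w => andB (Nat.beq cur tgt)
      (List.rec (motive := fun _ => Bool) true (fun _ _ _ => false) w))
    (fun _ ih S cur w =>
      force S fun S' => force (Nat.land S' 16777215) fun p =>
        force (Nat.div p 2) fun id => force (C.facts.get id) fun e =>
        force (Nat.land e 31) fun l =>
        force (Nat.shiftRight S' 24) fun R =>
        force (iteB (Nat.beq (Nat.mod p 2) 0)
          (Nat.land (Nat.shiftRight e 5) 2097151) (Nat.shiftRight e 26)) fun nxt =>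
        andB (Nat.blt id i)
          (andB (Nat.beq cur (iteB (Nat.beq (Nat.mod p 2) 0)
            (Nat.shiftRight e 26) (Nat.land (Nat.shiftRight e 5) 2097151)))
            (iteB (Nat.blt l 18)
              (List.rec (motive := fun _ => Bool) false
                (fun a w' _ => andB (Nat.beq a (iteB (Nat.beq (Nat.mod p 2) 0) l (Nat.xor l 1)))
                  (ih R nxt w')) w)
              (ih R nxt w)))) m

/-- the loop number `c`: a relator, a cancellation, or (at node `0` only) a subgroup word -/
noncomputable def loopW (c : Nat) : List Nat :=
  iteB (Nat.blt c 18) (wordAt cancels c)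
    (iteB (Nat.blt (Nat.sub c 18) C.rels.length) (wordAt C.rels (Nat.sub c 18))
      (wordAt C.subs (Nat.sub (Nat.sub c 18) C.rels.length)))

/-- is the loop valid at node `x` -/
noncomputable def loopOK (c x : Nat) : Bool :=
  iteB (Nat.blt (Nat.sub c 18) C.rels.length) true (Nat.beq x 0)

/-- fact `i`, with value `e`, justified by two paths from node `x` along loop `c`, split at `j` -/
noncomputable def scanOK (i e c x j m1 m2 S : Nat) : Bool :=
  force (Nat.land e 31) fun l =>
    andB (C.loopOK c x)
      (andB (iteB (Nat.blt l 18) (eqL (takeW (dropW (C.loopW c) j) 1) [l]) true)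
        (andB (C.follow i (Nat.shiftRight e 26) m1 S x (takeW (C.loopW c) j))
          (C.follow i (Nat.land (Nat.shiftRight e 5) 2097151) m2
            (Nat.shiftRight S (Nat.mul 24 m1)) x
            (invW (dropW (C.loopW c) (iteB (Nat.blt l 18) (Nat.succ j) j)) []))))

/-- fact `i` justified by the head of the stream `S` -/
noncomputable def stepOK (i S : Nat) : Bool :=
  force (C.facts.get i) fun e => force (Nat.land S 16777215) fun k =>
    iteB (Nat.beq k 0)
      (force (Nat.land (Nat.shiftRight e 5) 2097151) fun v =>
        andB (Nat.blt (Nat.shiftRight e 26) v)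
          (force (C.defs.get v) fun d =>
            andB (Nat.beq (Nat.shiftRight d 5) (Nat.shiftRight e 26))
              (Nat.beq (Nat.land d 31) (Nat.land e 31))))
      (C.scanOK i e (Nat.pred k)
        (Nat.land (Nat.shiftRight S 24) 16777215)
        (Nat.land (Nat.shiftRight S 48) 16777215)
        (Nat.land (Nat.shiftRight S 72) 16777215)
        (Nat.land (Nat.shiftRight S 96) 16777215)
        (Nat.shiftRight S 120))

/-- number of 24 bit entries of the head of the stream -/
noncomputable def size (S : Nat) : Nat :=
  iteB (Nat.beq (Nat.land S 16777215) 0) 1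
    (Nat.add 5 (Nat.add (Nat.land (Nat.shiftRight S 72) 16777215)
      (Nat.land (Nat.shiftRight S 96) 16777215)))

/-- `n` consecutive facts from one stream -/
noncomputable def goStream (n : Nat) : Nat → Nat → Bool :=
  Nat.rec (motive := fun _ => Nat → Nat → Bool) (fun _ _ => true)
    (fun _ ih i S => force i fun j => force S fun S' =>
      andB (C.stepOK j S') (ih (Nat.succ j) (Nat.shiftRight S' (Nat.mul 24 (size S'))))) n

/-- several streams -/
noncomputable def goStreams (L : List (Nat × Nat)) : Nat → Bool :=
  List.rec (motive := fun _ => Nat → Bool) (fun _ => true)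
    (fun q _ ih i => force i fun j => andB (C.goStream q.1 j q.2) (ih (Nat.add j q.1))) L

end Cert

/-- the final table: nodes, and for each listed generator the images and the proving facts -/
structure Table where
  n : Nat
  gens : List Nat
  node : Nat
  perms : List Nat
  eids : List Nat

namespace Table

variable (A : Table)

noncomputable def act (g i : Nat) : Nat := at16 (natAt A.perms g) i
noncomputable def eid (g i : Nat) : Nat := at24 (natAt A.eids g) i
noncomputable def nd (i : Nat) : Nat := at24 A.node i

/-- the edge of generator number `g` at row `i` -/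
noncomputable def edgeOK (C : Cert) (N i g : Nat) : Bool :=
  force (A.act g i) fun j => force (A.eid g i) fun e => force (C.facts.get e) fun f =>
    andB (Nat.blt j A.n) (andB (Nat.blt e N)
      (andB (Nat.beq (Nat.land f 31) (natAt A.gens g))
        (andB (Nat.beq (Nat.shiftRight f 26) (A.nd i))
          (Nat.beq (Nat.land (Nat.shiftRight f 5) 2097151) (A.nd j)))))

/-- row `i` -/
noncomputable def rowOK (C : Cert) (N i : Nat) : Bool :=
  andB (rangeAll (A.edgeOK C N i) A.gens.length 0)
    (iteB (Nat.beq i 0) (Nat.beq (A.nd 0) 0) true)

end Table

end Cfsg.Agent.Lib.LyH
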