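import Mathlib
import Cfsg.Agent.Lib.CosetTable.Sound
import Cfsg.Agent.Lib.LyH.Check

/-!
Soundness of the checker: a closed table bounds the order of the generated subgroup.
-/

namespace Cfsg.Agent.Lib.LyH

open CosetTable (force andB iteB eqL rangeAll force_eq andB_eq iteB_eq eq_of_eqL beq_iff blt_iff
  rangeAll_spec Below)

namespace Cert

/-- every fact below `a` has a checked justification -/
def Upto (C : Cert) (a : ℕ) : Prop := ∀ j, j < a → ∃ S, C.stepOK j S = true

theorem Upto.zero (C : Cert) : C.Upto 0 := fun _ h => absurd h (Nat.not_lt_zero _)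

/-- number of facts in a list of streams -/
def total : List (ℕ × ℕ) → ℕ
  | [] => 0
  | (n, _) :: r => n + total r

theorem goStream_spec {C : Cert} :
    ∀ {n i S : ℕ}, C.goStream n i S = true →
      ∀ j, i ≤ j → j < i + n → ∃ S', C.stepOK j S' = true
  | 0, _, _, _, j, h1, h2 => by omega
  | n + 1, i, S, h, j, h1, h2 => by
    have h' : force i (fun j => force S fun S' => andB (C.stepOK j S') (C.goStream n (Nat.succ j)
        (Nat.shiftRight S' (Nat.mul 24 (Cert.size S'))))) = true := h
    rw [force_eq, force_eq, andB_eq, Bool.and_eq_true] at h'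
    rcases Nat.eq_or_lt_of_le h1 with rfl | h1'
    · exact ⟨S, h'.1⟩
    · exact goStream_spec h'.2 j h1' (by omega)

theorem Upto.step {C : Cert} :
    ∀ {L : List (ℕ × ℕ)} {a b : ℕ}, C.Upto a → C.goStreams L a = true → a + total L = b → C.Upto b
  | [], a, b, h, _, hb => by
    simp only [total] at hb
    obtain rfl : a = b := by omega
    exact h
  | (n, S) :: r, a, b, h, h2, hb => by
    have h' : force a (fun j => andB (C.goStream n j S) (C.goStreams r (Nat.add j n))) = true := h2
    rw [force_eq, andB_eq, Bool.and_eq_true] at h'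
    simp only [total] at hb
    refine Upto.step (a := a + n) ?_ h'.2 (by omega)
    intro j hj
    rcases Nat.lt_or_ge j a with hh | hh
    · exact h j hh
    · exact goStream_spec h'.1 j hh (by omega)

end Cert

section Semantics

variable {G : Type*} [Group G] (f : ℕ → G)

/-- the value of a label -/
def lab (a : ℕ) : G := if a < 18 then f a else 1

/-- the value of a word, first letter first -/
def wev (w : List ℕ) : G := (w.map (lab f)).prod

theorem wev_nil : wev f [] = 1 := rfl

theorem wev_cons (a : ℕ) (w : List ℕ) : wev f (a :: w) = lab f a * wev f w := by simp [wev]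

theorem wev_append (u w : List ℕ) : wev f (u ++ w) = wev f u * wev f w := by simp [wev]

/-- the subgroup on the left -/
def subG (C : Cert) : Subgroup G := Subgroup.closure {x | ∃ w ∈ C.subs, wev f w = x}

/-- what the group must satisfy -/
structure Model (C : Cert) : Prop where
  inv : ∀ a, a < 18 → f (a ^^^ 1) = (f a)⁻¹
  rel : ∀ w ∈ C.rels, wev f w = 1

/-- the element of a node -/
noncomputable def nodeVal (C : Cert) : ℕ → G
  | v => if h : C.dU v < v then nodeVal C (C.dU v) * lab f (C.dG v) else 1
termination_by v => v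

theorem nodeVal_zero (C : Cert) : nodeVal f C 0 = 1 := by
  rw [nodeVal]; simp

/-- node `u` times `g` is node `v` -/
def Leads (C : Cert) (u : ℕ) (g : G) (v : ℕ) : Prop :=
  nodeVal f C u * g * (nodeVal f C v)⁻¹ ∈ subG f C

variable {f} {C : Cert}

theorem Leads.refl (u : ℕ) : Leads f C u 1 u := by simp [Leads, one_mem]

theorem Leads.trans {u v w : ℕ} {g h : G} (e : Leads f C u g v) (e' : Leads f C v h w) :
    Leads f C u (g * h) w := by
  have := mul_mem e e'
  simpa [Leads, mul_assoc] using this

theorem Leads.symm {u v : ℕ} {g : G} (e : Leads f C u g v) : Leads f C v g⁻¹ u := by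
  have := inv_mem e
  simpa [Leads, mul_assoc] using this

theorem xor_one_lt {a : ℕ} (h : a < 18) : a ^^^ 1 < 18 := by interval_cases a <;> decide

theorem Model.lab_xor (M : Model f C) {a : ℕ} (h : a < 18) :
    lab f (a ^^^ 1) = (lab f a)⁻¹ := by
  rw [lab, lab, if_pos h, if_pos (xor_one_lt h), M.inv a h]

theorem lab_of_ge {a : ℕ} (h : ¬ a < 18) : lab f a = 1 := if_neg h

theorem Model.lab_invL (M : Model f C) (a : ℕ) : lab f (invL a) = (lab f a)⁻¹ := by
  rw [invL, iteB_eq]
  by_cases h : a < 18
  · rw [blt_iff.2 h, cond_true]; exact M.lab_xor h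
  · rw [Bool.eq_false_iff.2 (fun e => h (blt_iff.1 e)), cond_false, lab_of_ge h, inv_one]

theorem Model.wev_invW (M : Model f C) :
    ∀ l acc : List ℕ, wev f (invW l acc) = (wev f l)⁻¹ * wev f acc
  | [], acc => by simp [invW, wev_nil]
  | x :: l, acc => by
    show wev f (invW l (invL x :: acc)) = _
    rw [M.wev_invW l, wev_cons, wev_cons, M.lab_invL, mul_inv_rev, mul_assoc]

theorem take_drop : ∀ (l : List ℕ) (j : ℕ), takeW l j ++ dropW l j = l
  | [], _ => rfl
  | _ :: _, 0 => rfl
  | x :: l, j + 1 => by
    show (x :: takeW l j) ++ dropW l j = _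
    rw [List.cons_append, take_drop l j]

theorem drop_succ : ∀ (l : List ℕ) (j a : ℕ), takeW (dropW l j) 1 = [a] →
    dropW l j = a :: dropW l (j + 1)
  | [], j, a, h => by simp [dropW, takeW] at h
  | x :: l, 0, a, h => by
    have h' : x :: takeW l 0 = [a] := h
    cases l <;> simp_all [dropW, takeW]
  | x :: l, j + 1, a, h => by
    show dropW l j = a :: dropW l (j + 1)
    exact drop_succ l j a h

theorem wordAt_eq : ∀ (l : List (List ℕ)) (i : ℕ), wordAt l i = l.getD i []
  | [], _ => rfl
  | _ :: _, 0 => rfl
  | _ :: l, i + 1 => by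
    show wordAt l i = _
    rw [wordAt_eq l i]; rfl

theorem Model.cancels_one (M : Model f C) : ∀ w ∈ cancels, wev f w = 1 := by
  intro w hw
  have h : ∀ a b, a < 18 → b = a ^^^ 1 → wev f [b, a] = 1 := by
    rintro a b ha rfl
    rw [wev_cons, wev_cons, wev_nil, M.lab_xor ha, mul_one, inv_mul_cancel]
  simp only [cancels, List.mem_cons, List.not_mem_nil, or_false] at hw
  rcases hw with h' | h' | h' | h' | h' | h' | h' | h' | h' | h' | h' | h' | h' | h' | h' | h' |
    h' | h' <;> subst h' <;> exact h _ _ (by decide) (by decide)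

theorem Model.loop_leads (M : Model f C) {c x : ℕ} (h : C.loopOK c x = true) :
    Leads f C x (wev f (C.loopW c)) x := by
  have hone : ∀ w : List ℕ, wev f w = 1 → Leads f C x (wev f w) x := fun w e => by
    rw [e]; exact Leads.refl x
  have hget : ∀ (l : List (List ℕ)) (i : ℕ), (∀ w ∈ l, wev f w = 1) → wev f (wordAt l i) = 1 := by
    intro l i hl
    rw [wordAt_eq, List.getD_eq_getElem?_getD]
    rcases e : l[i]? with _ | w
    · rfl
    · exact hl w (List.mem_of_getElem? e)
  rw [Cert.loopOK, iteB_eq] at h
  rw [Cert.loopW]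
  simp only [iteB_eq]
  cases h1 : Nat.blt c 18
  · simp only [cond_false]
    cases h2 : Nat.blt (Nat.sub c 18) C.rels.length
    · rw [h2, cond_false, beq_iff] at h
      simp only [cond_false]
      subst h
      rw [Leads, nodeVal_zero, one_mul, inv_one, mul_one, wordAt_eq, List.getD_eq_getElem?_getD]
      rcases e : C.subs[Nat.sub (Nat.sub c 18) C.rels.length]? with _ | w
      · exact one_mem _
      · exact Subgroup.subset_closure ⟨w, List.mem_of_getElem? e, rfl⟩
    · exact hone _ (hget _ _ M.rel)
  · exact hone _ (hget _ _ M.cancels_one)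

theorem follow_succ (i tgt m S cur : ℕ) (w : List ℕ) :
    C.follow i tgt (m + 1) S cur w =
      (Nat.blt (Nat.land S 16777215 / 2) i &&
        (Nat.beq cur (cond (Nat.beq (Nat.land S 16777215 % 2) 0)
          (C.fU (Nat.land S 16777215 / 2)) (C.fV (Nat.land S 16777215 / 2))) &&
        cond (Nat.blt (C.fL (Nat.land S 16777215 / 2)) 18)
          (match w with
            | [] => false
            | a :: w' => Nat.beq a (cond (Nat.beq (Nat.land S 16777215 % 2) 0)
                (C.fL (Nat.land S 16777215 / 2)) (C.fL (Nat.land S 16777215 / 2) ^^^ 1)) &&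
              C.follow i tgt m (Nat.shiftRight S 24)
                (cond (Nat.beq (Nat.land S 16777215 % 2) 0) (C.fV (Nat.land S 16777215 / 2))
                  (C.fU (Nat.land S 16777215 / 2))) w')
          (C.follow i tgt m (Nat.shiftRight S 24)
            (cond (Nat.beq (Nat.land S 16777215 % 2) 0) (C.fV (Nat.land S 16777215 / 2))
              (C.fU (Nat.land S 16777215 / 2))) w))) := by
  have hd : ∀ a b : ℕ, Nat.div a b = a / b := fun _ _ => rfl
  have hm : ∀ a b : ℕ, Nat.mod a b = a % b := fun _ _ => rfl
  have hx : ∀ a b : ℕ, Nat.xor a b = a ^^^ b := fun _ _ => rfl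
  conv_lhs => unfold Cert.follow
  simp only [force_eq, andB_eq, iteB_eq, hd, hm, hx, Cert.fU, Cert.fV, Cert.fL]
  cases w <;> simp [Bool.and_assoc, Cert.follow, hd, hm, hx]

theorem follow_spec (M : Model f C) {i tgt : ℕ}
    (hv : ∀ j, j < i → Leads f C (C.fU j) (lab f (C.fL j)) (C.fV j)) :
    ∀ (m S cur : ℕ) (w : List ℕ), C.follow i tgt m S cur w = true →
      Leads f C cur (wev f w) tgt
  | 0, S, cur, w, h => by
    change andB (Nat.beq cur tgt)
      (List.rec (motive := fun _ => Bool) true (fun _ _ _ => false) w) = true at h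
    rw [andB_eq, Bool.and_eq_true, beq_iff] at h
    cases w with
    | nil => rw [h.1, wev_nil]; exact Leads.refl _
    | cons a w' => exact Bool.noConfusion (h.2 : false = true)
  | m + 1, S, cur, w, h => by
    rw [follow_succ] at h
    simp only [Bool.and_eq_true, blt_iff] at h
    generalize Nat.land S 16777215 / 2 = id at h
    generalize Nat.beq (Nat.land S 16777215 % 2) 0 = fw at h
    obtain ⟨hlt, hcur, hrest⟩ := h
    rw [beq_iff] at hcur
    have e := hv id hlt
    set l := C.fL id
    by_cases hl : l < 18
    · rw [blt_iff.2 hl, cond_true] at hrest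
      match w, hrest with
      | [], hr => simp at hr
      | a :: w', hr =>
        simp only [Bool.and_eq_true, beq_iff] at hr
        rw [wev_cons]
        refine Leads.trans ?_ (follow_spec M hv m _ _ w' hr.2)
        rw [hr.1, hcur]
        cases fw
        · simp only [cond_false]; rw [M.lab_xor hl]; exact e.symm
        · exact e
    · rw [Bool.eq_false_iff.2 (fun e => hl (blt_iff.1 e)), cond_false] at hrest
      rw [lab_of_ge hl] at e
      rw [← one_mul (wev f w)]
      refine Leads.trans ?_ (follow_spec M hv m _ _ w hrest)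
      rw [hcur]
      cases fw
      · simpa using e.symm
      · exact e

theorem facts_valid (M : Model f C) {N : ℕ} (hN : C.Upto N) :
    ∀ i, i < N → Leads f C (C.fU i) (lab f (C.fL i)) (C.fV i) := by
  intro i
  induction i using Nat.strongRecOn with
  | _ i IH =>
    intro hi
    obtain ⟨S, hS⟩ := hN i hi
    simp only [Cert.stepOK, force_eq, andB_eq, iteB_eq] at hS
    cases h0 : Nat.beq (Nat.land S 16777215) 0
    · simp only [h0, cond_false, Cert.scanOK, force_eq, andB_eq, iteB_eq, Bool.and_eq_true] at hS
      obtain ⟨hok, hsplit, h1, h2⟩ := hS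
      change C.follow i (C.fU i) _ _ _ _ = true at h1
      change C.follow i (C.fV i) _ _ _ _ = true at h2
      change cond (Nat.blt (C.fL i) 18) (eqL (takeW _ 1) [C.fL i]) true = true at hsplit
      generalize Nat.pred (Nat.land S 16777215) = c at hok hsplit h1 h2
      generalize Nat.land (Nat.shiftRight S 24) 16777215 = x at hok hsplit h1 h2
      generalize Nat.land (Nat.shiftRight S 48) 16777215 = j at hok hsplit h1 h2
      have hp : ∀ j', j' < i → Leads f C (C.fU j') (lab f (C.fL j')) (C.fV j') :=
        fun j' hj => IH j' hj (hj.trans hi)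
      have e1 := follow_spec M hp _ _ _ _ h1
      have e2 := follow_spec M hp _ _ _ _ h2
      have eW := M.loop_leads hok
      rw [M.wev_invW, wev_nil, mul_one] at e2
      rw [← take_drop (C.loopW c) j, wev_append] at eW
      have key := (e1.symm.trans eW).trans e2
      change Leads f C (C.fU i) _ (C.fV i) at key
      rw [← show (C.fL i) = Nat.land (C.facts.get i) 31 from rfl] at key
      convert key using 1
      by_cases hl : C.fL i < 18
      · rw [blt_iff.2 hl, cond_true]
        rw [blt_iff.2 hl, cond_true] at hsplit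
        rw [drop_succ _ _ _ (eq_of_eqL hsplit), wev_cons]
        simp only [Nat.succ_eq_add_one]
        group
      · rw [Bool.eq_false_iff.2 (fun e => hl (blt_iff.1 e)), cond_false, lab_of_ge hl]
        group
    · simp only [h0, cond_true, Bool.and_eq_true, beq_iff, blt_iff] at hS
      change C.fU i < C.fV i ∧ C.dU (C.fV i) = C.fU i ∧ C.dG (C.fV i) = C.fL i at hS
      obtain ⟨hlt, hu, hg⟩ := hS
      rw [Leads]
      nth_rw 2 [nodeVal]
      rw [dif_pos (by rw [hu]; exact hlt), hu, hg, mul_inv_cancel]
      exact one_mem _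

theorem natAt_eq : ∀ {l : List ℕ} {g : ℕ} (h : g < l.length), CosetTable.natAt l g = l[g]
  | _ :: _, 0, _ => rfl
  | _ :: l, g + 1, h => natAt_eq (l := l) (g := g) (by simpa using h)

/-- a closed table -/
structure Cover (C : Cert) (A : Table) (N : ℕ) : Prop where
  pos : 0 < A.n
  steps : C.Upto N
  rows : Below (A.rowOK C N) A.n
  gens_lt : ∀ a ∈ A.gens, a < 18

theorem Cover.card_le {A : Table} {N b : ℕ} (K : Cover C A N) (M : Model f C)
    (hb : Finite (subG f C) ∧ Nat.card (subG f C) ≤ b) :
    Finite (Subgroup.closure {x | ∃ a ∈ A.gens, f a = x}) ∧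
      Nat.card (Subgroup.closure {x | ∃ a ∈ A.gens, f a = x}) ≤ A.n * b := by
  have := hb.1
  let U : Set G := Set.range fun p : subG f C × Fin A.n => (p.1 : G) * nodeVal f C (A.nd p.2)
  have hfin : U.Finite := Set.finite_range _
  have h0 : A.nd 0 = 0 := by
    have h := K.rows 0 K.pos
    simp only [Table.rowOK, andB_eq, iteB_eq, Bool.and_eq_true] at h
    have h0 : Nat.beq 0 0 = true := rfl
    simpa only [h0, cond_true, beq_iff] using h.2
  have hone : (1 : G) ∈ U := ⟨(1, ⟨0, K.pos⟩), by simp [h0, nodeVal_zero]⟩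
  have hmul : ∀ a ∈ A.gens, ∀ u ∈ U, u * f a ∈ U := by
    intro a ha
    obtain ⟨g, hg, rfl⟩ := List.getElem_of_mem ha
    rintro _ ⟨⟨s, i⟩, rfl⟩
    have h := K.rows i i.2
    simp only [Table.rowOK, andB_eq, Bool.and_eq_true] at h
    have h' := rangeAll_spec h.1 g (Nat.zero_le _) (by omega)
    simp only [Table.edgeOK, force_eq, andB_eq, Bool.and_eq_true, beq_iff, blt_iff] at h'
    obtain ⟨h1, h3, h4, h5, h6⟩ := h'
    have e := facts_valid M K.steps _ h3
    have hn := natAt_eq hg
    rw [show C.fL (A.eid g i) = CosetTable.natAt A.gens g from h4, hn,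
      show C.fU (A.eid g i) = A.nd i from h5,
      show C.fV (A.eid g i) = A.nd (A.act g i) from h6] at e
    have hl : lab f A.gens[g] = f A.gens[g] := if_pos (K.gens_lt _ (List.getElem_mem hg))
    rw [hl, Leads] at e
    refine ⟨(⟨_, mul_mem s.2 e⟩, ⟨_, h1⟩), ?_⟩
    simp only [mul_assoc, inv_mul_cancel, mul_one]
  let T := Subgroup.closure {x | ∃ a ∈ A.gens, f a = x}
  have hT : ∀ g ∈ T, ∀ u ∈ U, u * g ∈ U := by
    intro g hg
    induction hg using Subgroup.closure_induction'' with
    | one => simp
    | mem x hx => obtain ⟨a, ha, rfl⟩ := hx; exact hmul a ha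
    | inv_mem x hx =>
      obtain ⟨a, ha, rfl⟩ := hx
      intro u hu
      have himg : (· * f a) '' U = U := by
        refine Set.eq_of_subset_of_ncard_le (Set.image_subset_iff.2 fun v hv => hmul a ha v hv) ?_
          hfin
        rw [Set.ncard_image_of_injective _ (mul_left_injective _)]
      rw [← himg] at hu
      obtain ⟨v, hv, rfl⟩ := hu
      simpa using hv
    | mul x y _ _ hx hy => intro u hu; rw [← mul_assoc]; exact hy _ (hx u hu)
  have hsub : (T : Set G) ⊆ U := fun g hg => by simpa using hT g hg 1 hone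
  have : Finite U := hfin.to_subtype
  refine ⟨(hfin.subset hsub).to_subtype, ?_⟩
  calc Nat.card T ≤ Nat.card U := Nat.card_mono hfin hsub
    _ ≤ Nat.card (subG f C × Fin A.n) := Finite.card_range_le _
    _ ≤ A.n * b := by
      rw [Nat.card_prod, Nat.card_fin, mul_comm]
      exact Nat.mul_le_mul_left _ hb.2

end Semantics

end Cfsg.Agent.Lib.LyH
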