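import Cfsg.Agent.Lib.LyH.L2Data
import Cfsg.Agent.Lib.LyH.Sound

/-! The facts of the certificate are checked, and the table is closed. -/

namespace Cfsg.Agent.Lib.LyH.L2

set_option maxRecDepth 100000
set_option maxHeartbeats 0

theorem upto_0 (h : cert.Upto 0) : cert.Upto 23 :=
  Cert.Upto.step (L := [(23, 0x1300000100000000000000000300000400001900000100000000000000000300000200001100000100000000000000000400000400000f00000100000000000000000400000200001500000100000000000000000200000400001b00000100000000000000000200000200001700000100000000000000000100000400001d00000100000000000000000100000200000700001a00000a00000800000400000000000000000200001500000900001800000400000c00000400000000000000000400001500000b00000e00000800000600000400000000000000000100001500000700001400000600000300000000000000000100001600000900001200000800000300000000000000000200001600000b00001000000a00000300000000000000000300001600000d00000300000c00000300000000000000000400001600000d00000100000c00000a00000400000000000000000300001500000a000008000006000004000000000004000004000000000014000000000000000000000000000000000000000000000000000018000000000000000000000000000017)]) h (by decide +kernel) (by decide +kernel)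

theorem upto : cert.Upto 23 :=
  (upto_0 (Cert.Upto.zero _))

theorem cover : Cover cert table 23 where
  pos := by decide +kernel
  steps := upto
  rows := fun j hj => CosetTable.rangeAll_spec (m := 5) (i := 0) (by decide +kernel) j (Nat.zero_le _) (by simpa [table] using hj)
  gens_lt := by decide +kernel

end Cfsg.Agent.Lib.LyH.L2
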