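import Cfsg.Agent.Lib.LyH.Words
import Cfsg.Agent.Lib.LyH.L1
import Cfsg.Agent.Lib.LyH.L2
import Cfsg.Agent.Lib.LyH.L3
import Cfsg.Agent.Lib.LyH.L4

/-!
A group generated by four elements with the relations 1-44 of the Lyons presentation has at most
5859000000 elements.
-/

namespace Cfsg.Agent.Lib.LyH

variable {G : Type*} [Group G] {a b c d : G}

theorem model_of_sub (h : LyRel a b c d) {C : Cert}
    (hs : C.rels.all (fun w => relL.contains w) = true) :
    Model (letters a b c d) C where
  inv := letters_inv a b c d
  rel w hw := relL_one h w (List.contains_iff_mem.1 (List.all_eq_true.1 hs w hw))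

theorem card_le_of_le {H K : Subgroup G} (hle : H ≤ K) {n : ℕ}
    (h : Finite K ∧ Nat.card K ≤ n) : Finite H ∧ Nat.card H ≤ n := by
  have := h.1
  have e : Function.Injective (Subgroup.inclusion hle) := Subgroup.inclusion_injective hle
  exact ⟨Finite.of_injective _ e, (Nat.card_le_card_of_injective _ e).trans h.2⟩

/-- the bound on the order -/
theorem card_closure_le (h : LyRel a b c d) :
    Finite (Subgroup.closure ({a, b, c, d} : Set G)) ∧
      Nat.card (Subgroup.closure ({a, b, c, d} : Set G)) ≤ 5859000000 := by
  have h8 : Finite (Subgroup.zpowers a) ∧ Nat.card (Subgroup.zpowers a) ≤ 8 := by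
    have hfin : IsOfFinOrder a := isOfFinOrder_iff_pow_eq_one.2 ⟨8, by norm_num, h.r1⟩
    refine ⟨hfin.finite_zpowers.to_subtype, ?_⟩
    rw [Nat.card_zpowers]
    exact orderOf_le_of_pow_eq_one (by norm_num) h.r1
  have b1 : Finite (subG (letters a b c d) L1.cert) ∧
      Nat.card (subG (letters a b c d) L1.cert) ≤ 8 := by
    refine card_le_of_le ((Subgroup.closure_le _).2 ?_) h8
    rintro x ⟨w, hw, rfl⟩
    simp only [L1.cert, List.mem_cons, List.not_mem_nil, or_false] at hw
    subst hw
    simp [wev, lab, letters, Subgroup.mem_zpowers]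
  have c1 := L1.cover.card_le (model_of_sub h (by decide +kernel)) b1
  have b2 : Finite (subG (letters a b c d) L2.cert) ∧
      Nat.card (subG (letters a b c d) L2.cert) ≤ 480 := by
    refine card_le_of_le ((Subgroup.closure_le _).2 ?_) c1
    rintro x ⟨w, hw, rfl⟩
    simp only [L2.cert, List.mem_cons, List.not_mem_nil, or_false] at hw
    rcases hw with rfl | rfl <;>
      exact Subgroup.subset_closure (by simp [wev, lab, letters, L1.table])
  have c2 := L2.cover.card_le (model_of_sub h (by decide +kernel)) b2
  have b3 : Finite (subG (letters a b c d) L3.cert) ∧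
      Nat.card (subG (letters a b c d) L3.cert) ≤ 2400 := by
    refine card_le_of_le ((Subgroup.closure_le _).2 ?_) c2
    rintro x ⟨w, hw, rfl⟩
    simp only [L3.cert, List.mem_cons, List.not_mem_nil, or_false] at hw
    rcases hw with rfl | rfl | rfl <;>
      exact Subgroup.subset_closure (by simp [wev, lab, letters, L2.table])
  have c3 := L3.cover.card_le (model_of_sub h (by decide +kernel)) b3
  have b4 : Finite (subG (letters a b c d) L4.cert) ∧
      Nat.card (subG (letters a b c d) L4.cert) ≤ 1500000 := by
    refine card_le_of_le ((Subgroup.closure_le _).2 ?_) c3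
    have hs : ∀ l ∈ [0, 2, 4], letters a b c d l ∈
        Subgroup.closure {x | ∃ t ∈ L3.table.gens, letters a b c d t = x} := fun l hl =>
      Subgroup.subset_closure ⟨l, hl, rfl⟩
    have ha := hs 0 (by simp)
    have hb := hs 2 (by simp)
    have hc := hs 4 (by simp)
    simp only [letters, List.getD_cons_zero, List.getD_cons_succ] at ha hb hc
    have h2 := mul_mem (mul_mem (inv_mem ha) hc) ha
    rintro x ⟨w, hw, rfl⟩
    simp only [L4.cert, List.mem_cons, List.not_mem_nil, or_false] at hw
    rcases hw with rfl | rfl | rfl | rfl | rfl | rfl | rfl <;>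
      simp only [wev, List.map_cons, List.map_nil, List.prod_cons, List.prod_nil, mul_one,
        lab, Nat.reduceLT, if_true, letters, List.getD_cons_zero, List.getD_cons_succ,
        SetLike.mem_coe]
    · exact ha
    · exact hb
    · exact hc
    · exact h2
    · exact mul_mem (mul_mem (inv_mem hb) hc) hb
    · exact mul_mem (mul_mem (inv_mem (inv_mem hb)) hc) (inv_mem hb)
    · exact mul_mem (mul_mem (mul_mem (inv_mem hc) (inv_mem h2)) hc) h2
  have c4 := L4.cover.card_le (model_of_sub h (by decide +kernel)) b4
  refine card_le_of_le ((Subgroup.closure_le _).2 ?_) c4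
  intro x hx
  simp only [Set.mem_insert_iff, Set.mem_singleton_iff] at hx
  rcases hx with rfl | rfl | rfl | rfl <;>
    exact Subgroup.subset_closure (by simp [letters, L4.table])

end Cfsg.Agent.Lib.LyH
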