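import Cfsg.Agent.Lib.LyH.Eval

/-! Evaluation of the checks on the 19530 points. -/

namespace Cfsg.Agent.Lib.LyH

set_option maxRecDepth 100000
set_option maxHeartbeats 0

theorem lyOrbs_ok : lyPk.orbsOK lyBase [lyOrb0, lyOrb1, lyOrb2] = true := by decide +kernel

theorem lyExt_inv : forallB (fun l => sameP (extPs [l, l + 1]) []) [8, 10, 12, 14, 16] = true := by
  decide +kernel

end Cfsg.Agent.Lib.LyH
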