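import Cfsg.Agent.Lib.LyH.Eval

/-! The images of the extended letters are points. -/

namespace Cfsg.Agent.Lib.LyH

set_option maxRecDepth 100000
set_option maxHeartbeats 0

theorem lyExt_lt :
    forallB (fun l => belowB (fun p => Nat.blt (at16 (extP l) p) 19530) 19530)
      [8, 10, 12, 14, 16] = true := by
  decide +kernel

end Cfsg.Agent.Lib.LyH
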