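import Cfsg.Agent.Lib.LyH.Eval

/-! Some relators fix all points. -/

namespace Cfsg.Agent.Lib.LyH

set_option maxRecDepth 100000
set_option maxHeartbeats 0

theorem rel12_fix : sameP (extPs [14, 14, 14, 14, 14]) [] = true := by decide +kernel

theorem rel16_fix : sameP (extPs [13, 15, 12, 14]) [] = true := by decide +kernel

theorem rel29_fix : sameP (extPs [16, 7, 5, 7, 2, 1, 3, 5, 7, 1, 5, 0, 5, 1, 4, 0, 2, 2]) [] = true := by decide +kernel

end Cfsg.Agent.Lib.LyH
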