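import Cfsg.Agent.Lib.LyH.Eval

/-! Some relators fix all points. -/

namespace Cfsg.Agent.Lib.LyH

set_option maxRecDepth 100000
set_option maxHeartbeats 0

theorem rel20_fix : sameP (extPs [9, 13, 8, 12]) [] = true := by decide +kernel

theorem rel39_fix : sameP (extPs [6, 17, 3, 8, 1, 17, 1, 17, 1, 14, 12, 4, 2, 0, 3, 3, 1]) [] = true := by decide +kernel

theorem rel42_fix : sameP (extPs [7, 0, 6, 1, 1, 1]) [] = true := by decide +kernel

end Cfsg.Agent.Lib.LyH
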