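import Cfsg.Agent.Lib.LyH.Eval

/-! Some relators fix all points. -/

namespace Cfsg.Agent.Lib.LyH

set_option maxRecDepth 100000
set_option maxHeartbeats 0

theorem rel3_fix : sameP (extPs [0, 2, 0, 2, 0, 2, 0, 2]) [] = true := by decide +kernel

theorem rel11_fix : sameP (extPs [4, 4, 4, 4, 4]) [] = true := by decide +kernel

theorem rel14_fix : sameP (extPs [9, 15, 8, 14]) [] = true := by decide +kernel

theorem rel44_fix : sameP (extPs [6, 14, 6, 15, 6, 14, 1, 1]) [] = true := by decide +kernel

end Cfsg.Agent.Lib.LyH
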