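import Cfsg.Agent.Lib.LyH.Eval

/-! Some relators fix all points. -/

namespace Cfsg.Agent.Lib.LyH

set_option maxRecDepth 100000
set_option maxHeartbeats 0

theorem rel15_fix : sameP (extPs [11, 15, 10, 14]) [] = true := by decide +kernel

theorem rel23_fix : sameP (extPs [1, 10, 0, 13, 5, 10, 10]) [] = true := by decide +kernel

theorem rel26_fix : sameP (extPs [3, 8, 2, 12, 4, 12, 11, 9]) [] = true := by decide +kernel

theorem rel40_fix : sameP (extPs [6, 6, 1, 1, 1, 1]) [] = true := by decide +kernel

end Cfsg.Agent.Lib.LyH
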