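import Cfsg.Agent.Lib.LyH.Eval

/-! Some relators fix all points. -/

namespace Cfsg.Agent.Lib.LyH

set_option maxRecDepth 100000
set_option maxHeartbeats 0

theorem rel17_fix : sameP (extPs [5, 11, 4, 10, 14, 14]) [] = true := by decide +kernel

theorem rel25_fix : sameP (extPs [1, 14, 0, 15, 15]) [] = true := by decide +kernel

theorem rel35_fix : sameP (extPs [16, 0, 0, 16, 12, 15, 5, 1, 2, 1, 3, 3, 1]) [] = true := by decide +kernel

end Cfsg.Agent.Lib.LyH
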