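import Cfsg.Agent.Lib.LyH.Eval

/-! Some relators fix all points. -/

namespace Cfsg.Agent.Lib.LyH

set_option maxRecDepth 100000
set_option maxHeartbeats 0

theorem rel7_fix : sameP (extPs [8, 1, 5, 0]) [] = true := by decide +kernel

theorem rel18_fix : sameP (extPs [5, 13, 4, 12, 15, 15]) [] = true := by decide +kernel

theorem rel30_fix : sameP (extPs [16, 16]) [] = true := by decide +kernel

theorem rel37_fix : sameP (extPs [16, 0, 2, 2, 0, 3, 0, 16, 12, 15, 5, 1, 1]) [] = true := by decide +kernel

end Cfsg.Agent.Lib.LyH
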