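import Cfsg.Agent.Lib.LyH.Eval

/-! Some relators fix all points. -/

namespace Cfsg.Agent.Lib.LyH

set_option maxRecDepth 100000
set_option maxHeartbeats 0

theorem rel4_fix : sameP (extPs [1, 1, 3, 0, 0, 2]) [] = true := by decide +kernel

theorem rel22_fix : sameP (extPs [1, 8, 0, 4, 4]) [] = true := by decide +kernel

theorem rel38_fix : sameP (extPs [16, 8, 16, 9, 16, 8, 13, 0, 10, 0, 0, 0]) [] = true := by decide +kernel

end Cfsg.Agent.Lib.LyH
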