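import Cfsg.Agent.Lib.LyH.Eval

/-! Some relators fix all points. -/

namespace Cfsg.Agent.Lib.LyH

set_option maxRecDepth 100000
set_option maxHeartbeats 0

theorem rel19_fix : sameP (extPs [9, 11, 8, 10, 14]) [] = true := by decide +kernel

theorem rel28_fix : sameP (extPs [3, 14, 2, 15]) [] = true := by decide +kernel

theorem rel32_fix : sameP (extPs [17, 10, 16, 0, 12, 4, 9, 1, 3, 3]) [] = true := by decide +kernel

theorem rel33_fix : sameP (extPs [17, 12, 16, 13, 10, 3, 3]) [] = true := by decide +kernel

end Cfsg.Agent.Lib.LyH
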