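import Cfsg.Agent.Lib.LyH.Eval

/-! Some relators fix all points. -/

namespace Cfsg.Agent.Lib.LyH

set_option maxRecDepth 100000
set_option maxHeartbeats 0

theorem rel21_fix : sameP (extPs [11, 13, 10, 12, 14]) [] = true := by decide +kernel

theorem rel34_fix : sameP (extPs [17, 14, 16, 12, 5, 10, 5]) [] = true := by decide +kernel

theorem rel41_fix : sameP (extPs [3, 7, 2, 6]) [] = true := by decide +kernel

theorem rel43_fix : sameP (extPs [6, 14, 6, 14, 6, 14, 6, 14, 6, 14]) [] = true := by decide +kernel

end Cfsg.Agent.Lib.LyH
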