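import Cfsg.Agent.Lib.LyH.Eval

/-! Some relators fix all points. -/

namespace Cfsg.Agent.Lib.LyH

set_option maxRecDepth 100000
set_option maxHeartbeats 0

theorem rel2_fix : sameP (extPs [2, 2, 2, 2, 2]) [] = true := by decide +kernel

theorem rel9_fix : sameP (extPs [12, 2, 5, 3]) [] = true := by decide +kernel

theorem rel24_fix : sameP (extPs [1, 12, 0, 13, 5, 13, 10, 8, 5]) [] = true := by decide +kernel

theorem rel31_fix : sameP (extPs [17, 4, 16, 4, 3, 11, 3]) [] = true := by decide +kernel

end Cfsg.Agent.Lib.LyH
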