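import Cfsg.Agent.Lib.LyH.Eval

/-! The eight packed permutations are inverse in pairs. -/

namespace Cfsg.Agent.Lib.LyH

set_option maxRecDepth 100000
set_option maxHeartbeats 0

theorem lyPk_ok : lyPk.permsOK = true := by decide +kernel

end Cfsg.Agent.Lib.LyH
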