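/-!
Kernel-friendly evaluation of words in eight letters on packed permutations.

A word is a number, four bits for each letter (the letter plus one), the first letter in the
lowest bits; a long word is a list of such numbers.  An element of the group is known by the
images of a few base points.  The file has no imports, so that evaluation needs little memory.
-/

namespace Cfsg.Agent.Lib.LyH

/-- evaluate `n` before use -/
noncomputable def hold {α : Type} (n : Nat) (f : Nat → α) : α :=
  Nat.rec (motive := fun _ => α) (f 0) (fun m _ => f (Nat.succ m)) n

/-- lazy conjunction -/
noncomputable def band (a b : Bool) : Bool := Bool.rec (motive := fun _ => Bool) false b a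

/-- conjunction over a list -/
noncomputable def forallB {α : Type} (p : α → Bool) (l : List α) : Bool :=
  List.rec (motive := fun _ => Bool) true (fun x _ ih => band (p x) ih) l

/-- conjunction over `0, ..., n - 1` -/
noncomputable def belowB (p : Nat → Bool) (n : Nat) : Bool :=
  Nat.rec (motive := fun _ => Bool) true (fun m ih => band (p m) ih) n

/-- entry of a list, or the default value -/
noncomputable def nth {α : Type} (d : α) (l : List α) : Nat → α :=
  List.rec (motive := fun _ => Nat → α) (fun _ => d)
    (fun x _ ih i => Nat.rec (motive := fun _ => α) x (fun m _ => ih m) i) l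

/-- entry of sixteen bits; the number is cut into chunks of 64 entries first, so that few big
numbers are formed -/
noncomputable def at16 (b i : Nat) : Nat :=
  hold (Nat.shiftRight i 6) fun c => hold (Nat.land i 63) fun r =>
    Nat.land (Nat.shiftRight (Nat.land (Nat.shiftRight b (Nat.shiftLeft c 10))
      0xffffffffffffffffffffffffffffffffffffffffffffffffffffffffffffffffffffffffffffffffffffffffffffffffffffffffffffffffffffffffffffffffffffffffffffffffffffffffffffffffffffffffffffffffffffffffffffffffffffffffffffffffffffffffffffffffffffffffffffffffffffffffffffffff) (Nat.shiftLeft r 4)) 65535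

/-- permutations of `0, ..., n - 1` for the eight letters -/
structure Pk where
  n : Nat
  ps : List Nat

/-- the image of a point under a letter -/
noncomputable def Pk.act (D : Pk) (l p : Nat) : Nat := at16 (nth 0 D.ps l) p

/-- follow one packed word of at most `fuel` letters -/
noncomputable def Pk.goC (D : Pk) (fuel : Nat) : Nat → Nat → Nat :=
  Nat.rec (motive := fun _ => Nat → Nat → Nat) (fun _ p => p)
    (fun _ ih w p => Nat.rec (motive := fun _ => Nat) p
      (fun _ _ => hold (D.act (Nat.land (Nat.sub (Nat.land w 15) 1) 7) p) fun q =>
        hold (Nat.shiftRight w 4) fun v => ih v q) w) fuel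

/-- follow a word -/
noncomputable def Pk.go (D : Pk) (u : List Nat) : Nat → Nat :=
  List.rec (motive := fun _ => Nat → Nat) (fun p => p)
    (fun w _ ih p => hold (D.goC 128 w p) ih) u

/-- equality test for lists of numbers -/
noncomputable def eqLN (a : List Nat) : List Nat → Bool :=
  List.rec (motive := fun _ => List Nat → Bool)
    (fun b => List.rec (motive := fun _ => Bool) true (fun _ _ _ => false) b)
    (fun x _ ih b =>
      List.rec (motive := fun _ => Bool) false (fun y ys _ => band (Nat.beq x y) (ih ys)) b) a

/-- move all points of a list along a word -/
noncomputable def Pk.mov (D : Pk) (u : List Nat) (s : List Nat) : List Nat :=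
  List.rec (motive := fun _ => List Nat) [] (fun p _ ih => hold (D.go u p) fun q => q :: ih) s

/-- the two words move the base alike -/
noncomputable def Pk.same (D : Pk) (base : List Nat) (u v : List Nat) : Bool :=
  eqLN (D.mov u base) (D.mov v base)


/-- entry of twenty-four bits -/
noncomputable def at24w (b i : Nat) : Nat :=
  Nat.land (Nat.shiftRight b (Nat.mul i 24)) 16777215

/-- orbit certificate of one base point: the points, their positions, and for each position the
generator and predecessor `q * 32 + w` -/
structure Orb where
  b : Nat
  gens : List (List Nat)
  len : Nat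
  pt : Nat
  idx : Nat
  par : Nat

/-- position `q` is reached -/
noncomputable def Pk.reachOK (D : Pk) (base : List Nat) (O : Orb) (q : Nat) : Bool :=
  hold (at16 O.pt q) fun x =>
    band (Nat.blt x D.n) (band (Nat.beq (at16 O.idx x) q)
      (Nat.rec (motive := fun _ => Bool) (Nat.beq x (nth 0 base O.b))
        (fun _ _ => hold (at24w O.par q) fun e => hold (Nat.div e 32) fun p =>
          band (Nat.blt p q) (band (Nat.blt (Nat.mod e 32) O.gens.length)
            (Nat.beq (D.go (nth [] O.gens (Nat.mod e 32)) (at16 O.pt p)) x))) q))

/-- all generators of later levels fix the base point of this one -/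
noncomputable def Pk.fixOK (D : Pk) (base : List Nat) (O : Orb) (L : List Orb) : Bool :=
  forallB (fun P => forallB
    (fun s => Nat.beq (D.go s (nth 0 base O.b)) (nth 0 base O.b)) P.gens) L

/-- the orbit certificates of a base -/
noncomputable def Pk.orbsOK (D : Pk) (base : List Nat) (L : List Orb) : Bool :=
  List.rec (motive := fun _ => Bool) true
    (fun O T ih => band ih (band (Nat.blt O.b base.length)
      (band (D.fixOK base O T) (belowB (D.reachOK base O) O.len)))) L

/-- product of the orbit lengths -/
noncomputable def orbCard (L : List Orb) : Nat :=
  List.rec (motive := fun _ => Nat) 1 (fun O _ ih => Nat.mul O.len ih) L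

/-- the letters of a packed word -/
noncomputable def decodeC (fuel : Nat) : Nat → List Nat :=
  Nat.rec (motive := fun _ => Nat → List Nat) (fun _ => [])
    (fun _ ih w => Nat.rec (motive := fun _ => List Nat) []
      (fun _ _ => Nat.land (Nat.sub (Nat.land w 15) 1) 7 :: ih (Nat.shiftRight w 4)) w) fuel

/-- the letters of a word -/
noncomputable def decode (u : List Nat) : List Nat :=
  List.rec (motive := fun _ => List Nat) [] (fun w _ ih => decodeC 128 w ++ ih) u

/-- the eight packed permutations are inverse in pairs -/
noncomputable def Pk.permsOK (D : Pk) : Bool :=
  belowB (fun l => belowB (fun p => hold (D.act l p) fun q =>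
    band (Nat.blt q D.n) (Nat.beq (D.act (Nat.xor l 1) q) p)) D.n) 8

end Cfsg.Agent.Lib.LyH
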