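import Mathlib
import Cfsg.Agent.Lib.LyH.Kernel

/-!
Soundness of the word evaluator and of the orbit certificates.
-/

namespace Cfsg.Agent.Lib.LyH

theorem hold_eq {α : Type} (n : ℕ) (f : ℕ → α) : hold n f = f n := by
  cases n <;> rfl

theorem band_eq (a b : Bool) : band a b = (a && b) := by cases a <;> rfl

theorem forallB_iff {α : Type} {p : α → Bool} :
    ∀ {l : List α}, forallB p l = true ↔ ∀ x ∈ l, p x = true
  | [] => by simp [forallB]
  | x :: l => by
    show band (p x) (forallB p l) = true ↔ _
    rw [band_eq, Bool.and_eq_true, forallB_iff]; simp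

theorem belowB_iff {p : ℕ → Bool} : ∀ {n : ℕ}, belowB p n = true ↔ ∀ i < n, p i = true
  | 0 => by simp [belowB]
  | n + 1 => by
    show band (p n) (belowB p n) = true ↔ _
    rw [band_eq, Bool.and_eq_true, belowB_iff]
    refine ⟨fun h i hi => ?_, fun h => ⟨h n (by omega), fun i hi => h i (by omega)⟩⟩
    rcases Nat.lt_succ_iff_lt_or_eq.1 hi with hi | rfl
    · exact h.2 i hi
    · exact h.1

theorem beqN_iff {a b : ℕ} : Nat.beq a b = true ↔ a = b :=
  ⟨Nat.eq_of_beq_eq_true, fun h => h ▸ Nat.beq_refl a⟩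

theorem eqLN_iff : ∀ {a b : List ℕ}, eqLN a b = true ↔ a = b
  | [], [] => by simp [eqLN]
  | [], _ :: _ => by simp [eqLN]
  | _ :: _, [] => by simp [eqLN]
  | x :: a, y :: b => by
    show band (Nat.beq x y) (eqLN a b) = true ↔ _
    rw [band_eq, Bool.and_eq_true, beqN_iff, eqLN_iff]; simp

theorem nth_eq {α : Type} (d : α) : ∀ (l : List α) (i : ℕ), nth d l i = l.getD i d
  | [], _ => by simp [nth]
  | x :: l, 0 => by simp [nth]
  | x :: l, i + 1 => by
    show nth d l i = _
    rw [nth_eq d l i]; simp

theorem decode_cons (w : ℕ) (u : List ℕ) : decode (w :: u) = decodeC 128 w ++ decode u := rfl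

theorem decode_append : ∀ u v : List ℕ, decode (u ++ v) = decode u ++ decode v
  | [], _ => rfl
  | w :: u, v => by
    rw [List.cons_append, decode_cons, decode_cons, decode_append, List.append_assoc]

theorem lt_eight_of_mem : ∀ {fuel w l : ℕ}, l ∈ decodeC fuel w → l < 8
  | 0, _, _, h => by simp [decodeC] at h
  | fuel + 1, 0, _, h => by simp [decodeC] at h
  | fuel + 1, w + 1, l, h => by
    have h' : l ∈ Nat.land (Nat.sub (Nat.land (w + 1) 15) 1) 7 :: decodeC fuel (Nat.shiftRight (w + 1) 4) := h
    rcases List.mem_cons.1 h' with rfl | h'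
    · exact Nat.lt_succ_iff.2 Nat.and_le_right
    · exact lt_eight_of_mem h'

theorem mem_decode_lt : ∀ {u : List ℕ} {l : ℕ}, l ∈ decode u → l < 8
  | [], _, h => by simp [decode] at h
  | w :: u, _, h => by
    rw [decode_cons, List.mem_append] at h
    exact h.elim lt_eight_of_mem mem_decode_lt

/-- a group acting on the points `0, ..., n - 1` with eight elements acting as the letters -/
structure Rep (D : Pk) (Q : Type*) [Group Q] where
  f : ℕ → Q
  pt : Q → ℕ → ℕ
  pt_one : ∀ p, pt 1 p = p
  pt_mul : ∀ a b p, pt (a * b) p = pt b (pt a p)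
  pt_lt : ∀ g p, p < D.n → pt g p < D.n
  pt_f : ∀ l p, l < 8 → p < D.n → pt (f l) p = D.act l p

namespace Rep

variable {D : Pk} {Q : Type*} [Group Q] (R : Rep D Q)

/-- the element of a word -/
noncomputable def ev (u : List ℕ) : Q := ((decode u).map R.f).prod

theorem ev_nil : R.ev [] = 1 := rfl

theorem ev_append (u v : List ℕ) : R.ev (u ++ v) = R.ev u * R.ev v := by
  simp [ev, decode_append]

theorem pt_inv {g : Q} {p q : ℕ} (h : R.pt g p = q) : R.pt g⁻¹ q = p := by
  rw [← h, ← R.pt_mul, mul_inv_cancel, R.pt_one]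

theorem goC_eq : ∀ (fuel w p : ℕ), p < D.n →
    D.goC fuel w p = R.pt (((decodeC fuel w).map R.f).prod) p
  | 0, _, p, _ => by simp [Pk.goC, decodeC, R.pt_one]
  | fuel + 1, 0, p, _ => by simp [Pk.goC, decodeC, R.pt_one]
  | fuel + 1, w + 1, p, hp => by
    show hold (D.act (Nat.land (Nat.sub (Nat.land (w + 1) 15) 1) 7) p) (fun q =>
        hold (Nat.shiftRight (w + 1) 4) fun v => D.goC fuel v q) =
      R.pt (((Nat.land (Nat.sub (Nat.land (w + 1) 15) 1) 7 ::
        decodeC fuel (Nat.shiftRight (w + 1) 4)).map R.f).prod) p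
    have hl : Nat.land (Nat.sub (Nat.land (w + 1) 15) 1) 7 < 8 :=
      lt_eight_of_mem (fuel := fuel + 1) (w := w + 1) (List.mem_cons_self ..)
    rw [hold_eq, hold_eq, List.map_cons, List.prod_cons, R.pt_mul, R.pt_f _ _ hl hp]
    refine goC_eq fuel _ _ ?_
    rw [← R.pt_f _ _ hl hp]
    exact R.pt_lt _ _ hp

theorem go_eq : ∀ (u : List ℕ) (p : ℕ), p < D.n → D.go u p = R.pt (R.ev u) p
  | [], p, _ => (R.pt_one p).symm
  | w :: u, p, hp => by
    show hold (D.goC 128 w p) (D.go u) = _
    rw [hold_eq, R.goC_eq 128 w p hp, go_eq u _ (R.pt_lt _ _ hp)]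
    simp only [ev, decode_cons, List.map_append, List.prod_append, R.pt_mul]

/-- the images of a list of points -/
noncomputable def imgs (g : Q) (base : List ℕ) : List ℕ := base.map (R.pt g)

theorem imgs_mul (a b : Q) (base : List ℕ) :
    R.imgs (a * b) base = (R.imgs a base).map (R.pt b) := by
  simp [imgs, R.pt_mul, Function.comp_def]

theorem imgs_one (base : List ℕ) : R.imgs 1 base = base := by
  rw [imgs]
  conv_rhs => rw [← List.map_id base]
  exact List.map_congr_left fun p _ => R.pt_one p

theorem mov_eq : ∀ (u s : List ℕ), (∀ p ∈ s, p < D.n) → D.mov u s = s.map (R.pt (R.ev u))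
  | _, [], _ => rfl
  | u, p :: s, h => by
    show hold (D.go u p) (fun q => q :: D.mov u s) = _
    rw [hold_eq, R.go_eq u p (h p (by simp)), mov_eq u s fun q hq => h q (by simp [hq])]
    rfl

theorem imgs_lt {base : List ℕ} (hb : ∀ b ∈ base, b < D.n) (g : Q) :
    ∀ p ∈ R.imgs g base, p < D.n := by
  intro p hp
  obtain ⟨b, hbm, rfl⟩ := List.mem_map.1 hp
  exact R.pt_lt _ _ (hb b hbm)

theorem mov_imgs {base : List ℕ} (hb : ∀ b ∈ base, b < D.n) (g : Q) (u : List ℕ) :
    D.mov u (R.imgs g base) = R.imgs (g * R.ev u) base := by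
  rw [R.mov_eq u _ (R.imgs_lt hb g), R.imgs_mul]

theorem mov_base {base : List ℕ} (hb : ∀ b ∈ base, b < D.n) (u : List ℕ) :
    D.mov u base = R.imgs (R.ev u) base := by
  conv_lhs => rw [← R.imgs_one base]
  rw [R.mov_imgs hb, one_mul]

/-- only the identity fixes the base -/
def Inj (base : List ℕ) : Prop := ∀ g : Q, R.imgs g base = base → g = 1

theorem eq_of_imgs {base : List ℕ} (hI : R.Inj base) {a b : Q}
    (h : R.imgs a base = R.imgs b base) : a = b := by
  have e : R.imgs (a * b⁻¹) base = base := by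
    rw [R.imgs_mul, h, ← R.imgs_mul, mul_inv_cancel, R.imgs_one]
  exact mul_inv_eq_one.1 (hI _ e)

theorem eq_of_same {base u v : List ℕ} (hb : ∀ b ∈ base, b < D.n) (hI : R.Inj base)
    (h : D.same base u v = true) : R.ev u = R.ev v := by
  have h' := eqLN_iff.1 h
  rw [R.mov_base hb, R.mov_base hb] at h'
  exact R.eq_of_imgs hI h'

theorem nth_imgs {base : List ℕ} {b : ℕ} (hb : b < base.length) (g : Q) :
    nth 0 (R.imgs g base) b = R.pt g (nth 0 base b) := by
  rw [nth_eq, nth_eq, List.getD_eq_getElem _ _ (by simpa [imgs] using hb),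
    List.getD_eq_getElem _ _ hb]
  simp [imgs]

/-- the subgroup of a list of words -/
noncomputable def wgroup (ws : List (List ℕ)) : Subgroup Q :=
  Subgroup.closure (R.ev '' {u | u ∈ ws})

/-- elements fixing the base points of the levels in `L` -/
def fixAll (base : List ℕ) : Subgroup Q where
  carrier := {g | R.imgs g base = base}
  one_mem' := R.imgs_one base
  mul_mem' {a b} ha hb := by
    show R.imgs (a * b) base = base
    rw [R.imgs_mul, show R.imgs a base = base from ha]; exact hb
  inv_mem' {a} ha := by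
    show R.imgs a⁻¹ base = base
    conv_lhs => rw [← show R.imgs a base = base from ha]
    rw [imgs, imgs, List.map_map]
    conv_rhs => rw [← List.map_id base]
    refine List.map_congr_left fun p _ => ?_
    show R.pt a⁻¹ (R.pt a p) = p
    exact R.pt_inv rfl

theorem wgroup_mono {ws ws' : List (List ℕ)} (h : ∀ u ∈ ws, u ∈ ws') :
    R.wgroup ws ≤ R.wgroup ws' :=
  Subgroup.closure_mono (Set.image_mono fun u hu => h u hu)

theorem ev_mem_wgroup {ws : List (List ℕ)} {u : List ℕ} (h : u ∈ ws) : R.ev u ∈ R.wgroup ws :=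
  Subgroup.subset_closure ⟨u, h, rfl⟩

section

variable {base : List ℕ} (hb : ∀ b ∈ base, b < D.n)
include hb

theorem nth_base_lt {b : ℕ} (h : b < base.length) : nth 0 base b < D.n := by
  rw [nth_eq, List.getD_eq_getElem _ _ h]; exact hb _ (List.getElem_mem h)

/-- all generators of the certificates -/
def orbGens (L : List Orb) : List (List ℕ) := (L.map Orb.gens).flatten

theorem orbsOK_cons {O : Orb} {T : List Orb} (h : D.orbsOK base (O :: T) = true) :
    D.orbsOK base T = true ∧ O.b < base.length ∧ D.fixOK base O T = true ∧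
      ∀ q < O.len, D.reachOK base O q = true := by
  have h' : band (D.orbsOK base T) (band (Nat.blt O.b base.length)
      (band (D.fixOK base O T) (belowB (D.reachOK base O) O.len))) = true := h
  simp only [band_eq, Bool.and_eq_true, belowB_iff] at h'
  exact ⟨h'.1, Nat.le_of_ble_eq_true h'.2.1, h'.2.2.1, h'.2.2.2⟩

/-- the product of the orbit lengths is a lower bound -/
theorem orbCard_mul_le [Finite Q] : ∀ (L : List Orb), D.orbsOK base L = true →
    ∀ S : Subgroup Q, R.wgroup (orbGens L) ≤ S →
      orbCard L * Nat.card (S ⊓ R.fixAll base : Subgroup Q) ≤ Nat.card S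
  | [], _, S, _ => by
    simpa [orbCard] using Nat.le_of_dvd Nat.card_pos (Subgroup.card_dvd_of_le inf_le_left)
  | O :: T, h, S, hS => by
    obtain ⟨hT, hlb, hfix, hreach⟩ := orbsOK_cons hb h
    let β := nth 0 base O.b
    let F : Subgroup Q :=
      { carrier := {g | R.pt g β = β}
        one_mem' := R.pt_one β
        mul_mem' := fun {a b} ha hb' => by
          show R.pt (a * b) β = β
          rw [R.pt_mul, show R.pt a β = β from ha]; exact hb'
        inv_mem' := fun {a} ha => R.pt_inv ha }
    have hle : R.wgroup (orbGens T) ≤ S ⊓ F := by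
      refine le_inf ((R.wgroup_mono fun u hu => ?_).trans hS) ?_
      · simp only [orbGens, List.map_cons, List.flatten_cons, List.mem_append]
        exact Or.inr hu
      · rw [wgroup, Subgroup.closure_le]
        rintro _ ⟨u, hu, rfl⟩
        simp only [orbGens, List.mem_flatten, List.mem_map, Set.mem_setOf_eq] at hu
        obtain ⟨_, ⟨P, hP, rfl⟩, hu⟩ := hu
        have h' := forallB_iff.1 (forallB_iff.1 hfix P hP) u hu
        rw [beqN_iff, R.go_eq _ _ (nth_base_lt hb hlb)] at h'
        exact h'
    have hinf : S ⊓ R.fixAll base ≤ S ⊓ F ⊓ R.fixAll base := by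
      intro g hg
      refine ⟨⟨hg.1, ?_⟩, hg.2⟩
      have e := R.nth_imgs hlb g
      rw [show R.imgs g base = base from hg.2] at e
      exact e.symm
    have ih := (Nat.mul_le_mul_left _ (Nat.le_of_dvd Nat.card_pos
      (Subgroup.card_dvd_of_le hinf))).trans (orbCard_mul_le T hT (S ⊓ F) hle)
    have hq : ∀ q, q < O.len → at16 O.pt q < D.n ∧ at16 O.idx (at16 O.pt q) = q ∧
        ∃ w ∈ S, R.pt w β = at16 O.pt q := by
      intro q
      induction q using Nat.strongRecOn with
      | _ q IH =>
        intro hq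
        have h' : hold (at16 O.pt q) (fun x =>
          band (Nat.blt x D.n) (band (Nat.beq (at16 O.idx x) q)
            (Nat.rec (motive := fun _ => Bool) (Nat.beq x (nth 0 base O.b))
              (fun _ _ => hold (at24w O.par q) fun e => hold (Nat.div e 32) fun p =>
                band (Nat.blt p q) (band (Nat.blt (Nat.mod e 32) O.gens.length)
                  (Nat.beq (D.go (nth [] O.gens (Nat.mod e 32)) (at16 O.pt p)) x))) q))) = true :=
          hreach q hq
        simp only [hold_eq, band_eq, Bool.and_eq_true, beqN_iff] at h'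
        obtain ⟨hx, hi, hrest⟩ := h'
        have hx' : at16 O.pt q < D.n := Nat.le_of_ble_eq_true hx
        refine ⟨hx', hi, ?_⟩
        rcases q with _ | q
        · exact ⟨1, one_mem _, (R.pt_one β).trans (beqN_iff.1 hrest).symm⟩
        · simp only [Bool.and_eq_true, beqN_iff] at hrest
          obtain ⟨hp, hg, he⟩ := hrest
          have hp' : Nat.div (at24w O.par (q + 1)) 32 < q + 1 := Nat.le_of_ble_eq_true hp
          obtain ⟨hplt, -, w, hw, hwp⟩ := IH _ hp' (hp'.trans hq)
          refine ⟨w * R.ev (nth [] O.gens (Nat.mod (at24w O.par (q + 1)) 32)), mul_mem hw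
            (hS (R.ev_mem_wgroup ?_)), ?_⟩
          · have hg' := Nat.le_of_ble_eq_true hg
            simp only [orbGens, List.map_cons, List.flatten_cons, List.mem_append]
            rw [nth_eq, List.getD_eq_getElem _ _ hg']
            exact Or.inl (List.getElem_mem _)
          · rw [R.pt_mul, hwp, ← R.go_eq _ _ hplt, he]
    choose w hw hwp using fun q : Fin O.len => (hq q q.2).2.2
    let φ : ↥(S ⊓ F) × Fin O.len → S := fun a => ⟨a.1.1 * w a.2, mul_mem a.1.2.1 (hw a.2)⟩
    have hφ : Function.Injective φ := by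
      rintro ⟨a, i⟩ ⟨a', i'⟩ e
      have e' : a.1 * w i = a'.1 * w i' := congrArg Subtype.val e
      have hpt : R.pt (a.1 * w i) β = R.pt (a'.1 * w i') β := by rw [e']
      rw [R.pt_mul, R.pt_mul, show R.pt a.1 β = β from a.2.2,
        show R.pt a'.1 β = β from a'.2.2, hwp, hwp] at hpt
      have hii : (i : ℕ) = i' := by rw [← (hq i i.2).2.1, ← (hq i' i'.2).2.1, hpt]
      obtain rfl := Fin.ext hii
      exact Prod.ext (Subtype.ext (mul_right_cancel e')) rfl
    have := Nat.card_le_card_of_injective φ hφ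
    rw [Nat.card_prod, Nat.card_fin] at this
    calc orbCard (O :: T) * Nat.card (S ⊓ R.fixAll base : Subgroup Q)
        = orbCard T * Nat.card (S ⊓ R.fixAll base : Subgroup Q) * O.len := by
          show O.len * orbCard T * _ = _; ring
      _ ≤ Nat.card ↥(S ⊓ F) * O.len := Nat.mul_le_mul_right _ ih
      _ ≤ Nat.card S := this

end

end Rep

end Cfsg.Agent.Lib.LyH
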