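import Cfsg.Agent.Lib.LyH.Rel
import Cfsg.Agent.Lib.LyH.Sound

/-! The eighteen letters and the relators as words. -/

namespace Cfsg.Agent.Lib.LyH

variable {G : Type*} [Group G]

/-- the letters `a a⁻¹ b b⁻¹ c c⁻¹ d d⁻¹ c2 c2⁻¹ ... c5⁻¹ e e⁻¹` -/
def letters (a b c d : G) (l : ℕ) : G :=
  [a, a⁻¹, b, b⁻¹, c, c⁻¹, d, d⁻¹, C2 a c, (C2 a c)⁻¹, C3 b c, (C3 b c)⁻¹, C4 b c, (C4 b c)⁻¹,
    C5 a c, (C5 a c)⁻¹, CE a b c d, (CE a b c d)⁻¹].getD l 1

theorem letters_inv (a b c d : G) (l : ℕ) (hl : l < 18) :
    letters a b c d (l ^^^ 1) = (letters a b c d l)⁻¹ := by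
  interval_cases l <;> simp [letters]

/-- the relators as words -/
def relL : List (List ℕ) := [[],
  [0, 0, 0, 0, 0, 0, 0, 0],
  [2, 2, 2, 2, 2],
  [0, 2, 0, 2, 0, 2, 0, 2],
  [1, 1, 3, 0, 0, 2],
  [1, 3, 0, 2, 1, 3, 0, 2, 1, 3, 0, 2],
  [8, 1, 5, 0],
  [10, 3, 5, 2],
  [12, 2, 5, 3],
  [14, 9, 5, 8, 4],
  [4, 4, 4, 4, 4],
  [14, 14, 14, 14, 14],
  [5, 15, 4, 14],
  [9, 15, 8, 14],
  [11, 15, 10, 14],
  [13, 15, 12, 14],
  [5, 11, 4, 10, 14, 14],
  [5, 13, 4, 12, 15, 15],
  [9, 11, 8, 10, 14],
  [9, 13, 8, 12],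
  [11, 13, 10, 12, 14],
  [1, 8, 0, 4, 4],
  [1, 10, 0, 13, 5, 10, 10],
  [1, 12, 0, 13, 5, 13, 10, 8, 5],
  [1, 14, 0, 15, 15],
  [3, 8, 2, 12, 4, 12, 11, 9],
  [3, 10, 2, 10, 10, 13, 5, 5],
  [3, 14, 2, 15],
  [16, 7, 5, 7, 2, 1, 3, 5, 7, 1, 5, 0, 5, 1, 4, 0, 2, 2],
  [16, 16],
  [17, 4, 16, 4, 3, 11, 3],
  [17, 10, 16, 0, 12, 4, 9, 1, 3, 3],
  [17, 12, 16, 13, 10, 3, 3],
  [17, 14, 16, 12, 5, 10, 5],
  [16, 0, 0, 16, 12, 15, 5, 1, 2, 1, 3, 3, 1],
  [17, 2, 16, 12, 12, 10, 5],
  [16, 0, 2, 2, 0, 3, 0, 16, 12, 15, 5, 1, 1],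
  [16, 8, 16, 9, 16, 8, 13, 0, 10, 0, 0, 0],
  [6, 17, 3, 8, 1, 17, 1, 17, 1, 14, 12, 4, 2, 0, 3, 3, 1],
  [6, 6, 1, 1, 1, 1],
  [3, 7, 2, 6],
  [7, 0, 6, 1, 1, 1],
  [6, 14, 6, 14, 6, 14, 6, 14, 6, 14],
  [6, 14, 6, 15, 6, 14, 1, 1]]

theorem relL_one {a b c d : G} (h : LyRel a b c d) :
    ∀ w ∈ relL, wev (letters a b c d) w = 1 := by
  simp only [relL, List.forall_mem_cons]
  refine ⟨?_, ?_, ?_, ?_, ?_, ?_, ?_, ?_, ?_, ?_, ?_, ?_, ?_, ?_, ?_, ?_, ?_, ?_, ?_, ?_, ?_, ?_, ?_, ?_, ?_, ?_, ?_, ?_, ?_, ?_, ?_, ?_, ?_, ?_, ?_, ?_, ?_, ?_, ?_, ?_, ?_, ?_, ?_, ?_, fun _ h => absurd h List.not_mem_nil⟩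
  · rfl
  · have := h.r1
    simpa [wev, lab, letters, pow_succ, mul_assoc] using this
  · have := h.r2
    simpa [wev, lab, letters, pow_succ, mul_assoc] using this
  · have := h.r3
    simpa [wev, lab, letters, pow_succ, mul_assoc] using this
  · have := h.r4
    simpa [wev, lab, letters, pow_succ, mul_assoc] using this
  · have := h.r5
    simpa [wev, lab, letters, pow_succ, mul_assoc] using this
  · simp [wev, lab, letters, C2, C3, C4, C5, CE, pow_succ, mul_assoc]
  · simp [wev, lab, letters, C2, C3, C4, C5, CE, pow_succ, mul_assoc]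
  · simp [wev, lab, letters, C2, C3, C4, C5, CE, pow_succ, mul_assoc]
  · simp [wev, lab, letters, C2, C3, C4, C5, CE, pow_succ, mul_assoc]
  · have := h.r11
    simpa [wev, lab, letters, pow_succ, mul_assoc] using this
  · have := h.r12
    simpa [wev, lab, letters, pow_succ, mul_assoc] using this
  · have := h.r13
    simpa [wev, lab, letters, pow_succ, mul_assoc] using this
  · have := h.r14
    simpa [wev, lab, letters, pow_succ, mul_assoc] using this
  · have := h.r15
    simpa [wev, lab, letters, pow_succ, mul_assoc] using this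
  · have := h.r16
    simpa [wev, lab, letters, pow_succ, mul_assoc] using this
  · have := h.r17
    simpa [wev, lab, letters, pow_succ, mul_assoc] using this
  · have := h.r18
    simpa [wev, lab, letters, pow_succ, mul_assoc] using this
  · have := h.r19
    simpa [wev, lab, letters, pow_succ, mul_assoc] using this
  · have := h.r20
    simpa [wev, lab, letters, pow_succ, mul_assoc] using this
  · have := h.r21
    simpa [wev, lab, letters, pow_succ, mul_assoc] using this
  · have := h.r22
    simpa [wev, lab, letters, pow_succ, mul_assoc] using this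
  · have := h.r23
    simpa [wev, lab, letters, pow_succ, mul_assoc] using this
  · have := h.r24
    simpa [wev, lab, letters, pow_succ, mul_assoc] using this
  · have := h.r25
    simpa [wev, lab, letters, pow_succ, mul_assoc] using this
  · have := h.r26
    simpa [wev, lab, letters, pow_succ, mul_assoc] using this
  · have := h.r27
    simpa [wev, lab, letters, pow_succ, mul_assoc] using this
  · have := h.r28
    simpa [wev, lab, letters, pow_succ, mul_assoc] using this
  · simp [wev, lab, letters, C2, C3, C4, C5, CE, pow_succ, mul_assoc]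
  · have := h.r30
    simpa [wev, lab, letters, pow_succ, mul_assoc] using this
  · have := h.r31
    simpa [wev, lab, letters, pow_succ, mul_assoc] using this
  · have := h.r32
    simpa [wev, lab, letters, pow_succ, mul_assoc] using this
  · have := h.r33
    simpa [wev, lab, letters, pow_succ, mul_assoc] using this
  · have := h.r34
    simpa [wev, lab, letters, pow_succ, mul_assoc] using this
  · have := h.r35
    simpa [wev, lab, letters, pow_succ, mul_assoc] using this
  · have := h.r36
    simpa [wev, lab, letters, pow_succ, mul_assoc] using this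
  · have := h.r37
    simpa [wev, lab, letters, pow_succ, mul_assoc] using this
  · have := h.r38
    simpa [wev, lab, letters, pow_succ, mul_assoc] using this
  · have := h.r39
    simpa [wev, lab, letters, pow_succ, mul_assoc] using this
  · have := h.r40
    simpa [wev, lab, letters, pow_succ, mul_assoc] using this
  · have := h.r41
    simpa [wev, lab, letters, pow_succ, mul_assoc] using this
  · have := h.r42
    simpa [wev, lab, letters, pow_succ, mul_assoc] using this
  · have := h.r43
    simpa [wev, lab, letters, pow_succ, mul_assoc] using this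
  · have := h.r44
    simpa [wev, lab, letters, pow_succ, mul_assoc] using this

/-- the relations from the words -/
theorem lyRel_of_words {a b c d : G} (h : ∀ w ∈ relL, wev (letters a b c d) w = 1) :
    LyRel a b c d := by
  simp only [relL, List.forall_mem_cons] at h
  obtain ⟨-, e1, e2, e3, e4, e5, -, -, -, -, e11, e12, e13, e14, e15, e16, e17, e18, e19, e20, e21, e22, e23, e24, e25, e26, e27, e28, -, e30, e31, e32, e33, e34, e35, e36, e37, e38, e39, e40, e41, e42, e43, e44, -⟩ := h
  constructor
  · simpa [wev, lab, letters, pow_succ, mul_assoc] using e1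
  · simpa [wev, lab, letters, pow_succ, mul_assoc] using e2
  · simpa [wev, lab, letters, pow_succ, mul_assoc] using e3
  · simpa [wev, lab, letters, pow_succ, mul_assoc] using e4
  · simpa [wev, lab, letters, pow_succ, mul_assoc] using e5
  · simpa [wev, lab, letters, pow_succ, mul_assoc] using e11
  · simpa [wev, lab, letters, pow_succ, mul_assoc] using e12
  · simpa [wev, lab, letters, pow_succ, mul_assoc] using e13
  · simpa [wev, lab, letters, pow_succ, mul_assoc] using e14
  · simpa [wev, lab, letters, pow_succ, mul_assoc] using e15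
  · simpa [wev, lab, letters, pow_succ, mul_assoc] using e16
  · simpa [wev, lab, letters, pow_succ, mul_assoc] using e17
  · simpa [wev, lab, letters, pow_succ, mul_assoc] using e18
  · simpa [wev, lab, letters, pow_succ, mul_assoc] using e19
  · simpa [wev, lab, letters, pow_succ, mul_assoc] using e20
  · simpa [wev, lab, letters, pow_succ, mul_assoc] using e21
  · simpa [wev, lab, letters, pow_succ, mul_assoc] using e22
  · simpa [wev, lab, letters, pow_succ, mul_assoc] using e23
  · simpa [wev, lab, letters, pow_succ, mul_assoc] using e24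
  · simpa [wev, lab, letters, pow_succ, mul_assoc] using e25
  · simpa [wev, lab, letters, pow_succ, mul_assoc] using e26
  · simpa [wev, lab, letters, pow_succ, mul_assoc] using e27
  · simpa [wev, lab, letters, pow_succ, mul_assoc] using e28
  · simpa [wev, lab, letters, pow_succ, mul_assoc] using e30
  · simpa [wev, lab, letters, pow_succ, mul_assoc] using e31
  · simpa [wev, lab, letters, pow_succ, mul_assoc] using e32
  · simpa [wev, lab, letters, pow_succ, mul_assoc] using e33
  · simpa [wev, lab, letters, pow_succ, mul_assoc] using e34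
  · simpa [wev, lab, letters, pow_succ, mul_assoc] using e35
  · simpa [wev, lab, letters, pow_succ, mul_assoc] using e36
  · simpa [wev, lab, letters, pow_succ, mul_assoc] using e37
  · simpa [wev, lab, letters, pow_succ, mul_assoc] using e38
  · simpa [wev, lab, letters, pow_succ, mul_assoc] using e39
  · simpa [wev, lab, letters, pow_succ, mul_assoc] using e40
  · simpa [wev, lab, letters, pow_succ, mul_assoc] using e41
  · simpa [wev, lab, letters, pow_succ, mul_assoc] using e42
  · simpa [wev, lab, letters, pow_succ, mul_assoc] using e43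
  · simpa [wev, lab, letters, pow_succ, mul_assoc] using e44

end Cfsg.Agent.Lib.LyH
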