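import Mathlib
import Cfsg.Agent.Lib.LyH.Rep
import Cfsg.Agent.Lib.LyH.Words
import Cfsg.Agent.Lib.LyH.Bound
import Cfsg.Agent.Lib.LyH.HCheck
import Cfsg.Agent.Lib.LyH.HCheckLt
import Cfsg.Agent.Lib.LyH.HPerm
import Cfsg.Agent.Lib.LyH.HFix0
import Cfsg.Agent.Lib.LyH.HFix1
import Cfsg.Agent.Lib.LyH.HFix2
import Cfsg.Agent.Lib.LyH.HFix3
import Cfsg.Agent.Lib.LyH.HFix4
import Cfsg.Agent.Lib.LyH.HFix5
import Cfsg.Agent.Lib.LyH.HFix6
import Cfsg.Agent.Lib.LyH.HFix7
import Cfsg.Agent.Lib.LyH.HFix8
import Cfsg.Agent.Lib.LyH.HFix9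
import Cfsg.Agent.Lib.LyH.HFix10
import Cfsg.Agent.Lib.LyH.HFix11

/-!
The group `Hbar` of the 19530 points: it satisfies the relations 1-44 of the Lyons presentation,
has order 5859000000, is determined by three base points, and maps onto every group generated by
four elements with these relations.
-/

namespace Cfsg.Agent.Lib.LyH

theorem lyPk_n : lyPk.n = 19530 := rfl

theorem lyPk_spec {l p : ℕ} (hl : l < 8) (hp : p < 19530) :
    lyPk.act l p < 19530 ∧ lyPk.act (l ^^^ 1) (lyPk.act l p) = p := by
  have h := belowB_iff.1 lyPk_ok l hl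
  have h' := belowB_iff.1 h p hp
  simp only [hold_eq, band_eq, Bool.and_eq_true, beqN_iff] at h'
  exact ⟨Nat.le_of_ble_eq_true h'.1, h'.2⟩

theorem xor_one_spec : ∀ l < 8, l ^^^ 1 < 8 ∧ (l ^^^ 1) ^^^ 1 = l := by decide

/-- one letter as a permutation of the points -/
noncomputable def lyLetter (l : ℕ) : Equiv.Perm (Fin 19530) :=
  if hl : l < 8 then
    { toFun := fun p => ⟨lyPk.act l p, (lyPk_spec hl p.2).1⟩
      invFun := fun p => ⟨lyPk.act (l ^^^ 1) p, (lyPk_spec (xor_one_spec l hl).1 p.2).1⟩
      left_inv := fun p => Fin.ext (lyPk_spec hl p.2).2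
      right_inv := fun p => Fin.ext (by
        have := (lyPk_spec (xor_one_spec l hl).1 p.2).2
        rwa [(xor_one_spec l hl).2] at this) }
  else 1

theorem lyLetter_apply {l : ℕ} (hl : l < 8) (p : Fin 19530) :
    (lyLetter l p : ℕ) = lyPk.act l p := by
  rw [lyLetter, dif_pos hl]; rfl

theorem lyLetter_symm {l : ℕ} (hl : l < 8) : (lyLetter l)⁻¹ = lyLetter (l ^^^ 1) := by
  rw [inv_eq_iff_mul_eq_one]
  refine Equiv.ext fun p => Fin.ext ?_
  show (lyLetter l (lyLetter (l ^^^ 1) p) : ℕ) = p
  rw [lyLetter_apply hl, lyLetter_apply (xor_one_spec l hl).1]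
  have := (lyPk_spec (xor_one_spec l hl).1 p.2).2
  rwa [(xor_one_spec l hl).2] at this

/-- the permutations act on the points from the right -/
noncomputable def permRep : Rep lyPk (Equiv.Perm (Fin 19530)) where
  f l := (lyLetter l)⁻¹
  pt g p := if h : p < 19530 then ((g⁻¹ : Equiv.Perm (Fin 19530)) ⟨p, h⟩ : ℕ) else p
  pt_one p := by split <;> simp
  pt_mul a b p := by
    by_cases hp : p < 19530
    · simp [hp]
    · simp [hp]
  pt_lt g p hp := by
    rw [lyPk_n] at hp ⊢
    rw [dif_pos hp]
    exact Fin.isLt _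
  pt_f l p hl hp := by
    rw [lyPk_n] at hp
    rw [dif_pos hp, inv_inv, lyLetter_apply hl]

theorem permRep_pt (g : Equiv.Perm (Fin 19530)) (p : Fin 19530) :
    permRep.pt g p = ((g⁻¹ : Equiv.Perm (Fin 19530)) p : ℕ) := dif_pos p.2

theorem perm_ext {a b : Equiv.Perm (Fin 19530)}
    (h : ∀ p < 19530, permRep.pt a p = permRep.pt b p) : a = b := by
  refine inv_inj.1 (Equiv.ext fun p => Fin.ext ?_)
  rw [← permRep_pt, ← permRep_pt]
  exact h p p.2

theorem permRep_inv (l : ℕ) (hl : l < 8) : permRep.f (l ^^^ 1) = (permRep.f l)⁻¹ := by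
  show (lyLetter (l ^^^ 1))⁻¹ = (lyLetter l)⁻¹⁻¹
  rw [← lyLetter_symm hl]

/-- the eighteen extended letters as permutations -/
noncomputable def permLetters : ℕ → Equiv.Perm (Fin 19530) :=
  letters (permRep.f 0) (permRep.f 2) (permRep.f 4) (permRep.f 6)

/-- the packed permutation of a letter is that letter -/
def Agree (l : ℕ) : Prop :=
  ∀ p < 19530, at16 (extP l) p = permRep.pt (lab permLetters l) p

theorem runP_extPs : ∀ (w : List ℕ), (∀ l ∈ w, Agree l) → ∀ p < 19530,
    runP (extPs w) p = permRep.pt (wev permLetters w) p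
  | [], _, p, _ => (permRep.pt_one p).symm
  | l :: w, h, p, hp => by
    show hold (at16 (extP l) p) (runP (extPs w)) = _
    rw [hold_eq, h l (by simp) p hp, runP_extPs w (fun x hx => h x (by simp [hx])) _
      (permRep.pt_lt _ _ hp), wev_cons, permRep.pt_mul]

theorem sameP_spec {w : List ℕ} (h : sameP (extPs w) [] = true) (p : ℕ) (hp : p < 19530) :
    runP (extPs w) p = p :=
  beqN_iff.1 (belowB_iff.1 h p hp)

theorem agree_small {l : ℕ} (hl : l < 8) : Agree l := by
  intro p hp
  have h1 : lab permLetters l = permRep.f l := by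
    rw [lab, if_pos (by omega)]
    interval_cases l
    · rfl
    · exact (permRep_inv 0 (by decide)).symm
    · rfl
    · exact (permRep_inv 2 (by decide)).symm
    · rfl
    · exact (permRep_inv 4 (by decide)).symm
    · rfl
    · exact (permRep_inv 6 (by decide)).symm
  rw [h1, permRep.pt_f l p hl (by rwa [lyPk_n])]
  show at16 (extP l) p = at16 (nth 0 lyPk.ps l) p
  congr 1
  interval_cases l <;> rfl

/-- a relator `l :: w` that fixes all points identifies the letter `l` -/
theorem agree_head {l : ℕ} {w : List ℕ} (hw : ∀ x ∈ w, Agree x)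
    (h : sameP (extPs (l :: w)) [] = true) (hone : lab permLetters l * wev permLetters w = 1)
    (hlt : ∀ p < 19530, at16 (extP l) p < 19530) : Agree l := by
  intro p hp
  have h' := sameP_spec h p hp
  change hold (at16 (extP l) p) (runP (extPs w)) = p at h'
  rw [hold_eq, runP_extPs w hw _ (hlt p hp)] at h'
  have := permRep.pt_inv h'
  rw [eq_inv_of_mul_eq_one_left hone]
  exact this.symm

/-- the inverse of an identified letter is identified -/
theorem agree_inv {l m : ℕ} (hl : Agree l) (h : sameP (extPs [l, m]) [] = true)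
    (hone : lab permLetters l * lab permLetters m = 1) : Agree m := by
  intro q hq
  have hp := permRep.pt_lt (lab permLetters l)⁻¹ q hq
  have h' := sameP_spec h _ hp
  change hold (at16 (extP l) _) (fun r => hold (at16 (extP m) r) (fun x => x)) = _ at h'
  rw [hold_eq, hold_eq, hl _ hp, ← permRep.pt_mul, inv_mul_cancel, permRep.pt_one] at h'
  rw [h', eq_inv_of_mul_eq_one_right hone]

theorem agree_all : ∀ l < 18, Agree l := by
  have hlt : ∀ l ∈ [8, 10, 12, 14, 16], ∀ p < 19530, at16 (extP l) p < 19530 := fun l hl p hp =>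
    Nat.le_of_ble_eq_true (belowB_iff.1 (forallB_iff.1 lyExt_lt l hl) p hp)
  have hinv : ∀ l ∈ [8, 10, 12, 14, 16], sameP (extPs [l, l + 1]) [] = true :=
    forallB_iff.1 lyExt_inv
  have hs : ∀ l, l < 8 → Agree l := fun l hl => agree_small hl
  have h8 : Agree 8 := agree_head (by
      simp only [List.forall_mem_cons]
      exact ⟨hs 1 (by decide), hs 5 (by decide), hs 0 (by decide), fun _ h => absurd h List.not_mem_nil⟩)
    rel7_fix (by simp [lab, wev, permLetters, letters, C2, C3, C4, C5, CE, pow_succ, mul_assoc])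
    (hlt 8 (by simp))
  have h9 : Agree 9 := agree_inv h8 (hinv 8 (by simp))
    (by simp [lab, permLetters, letters])
  have h10 : Agree 10 := agree_head (by
      simp only [List.forall_mem_cons]
      exact ⟨hs 3 (by decide), hs 5 (by decide), hs 2 (by decide), fun _ h => absurd h List.not_mem_nil⟩)
    rel8_fix (by simp [lab, wev, permLetters, letters, C2, C3, C4, C5, CE, pow_succ, mul_assoc])
    (hlt 10 (by simp))
  have h11 : Agree 11 := agree_inv h10 (hinv 10 (by simp))
    (by simp [lab, permLetters, letters])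
  have h12 : Agree 12 := agree_head (by
      simp only [List.forall_mem_cons]
      exact ⟨hs 2 (by decide), hs 5 (by decide), hs 3 (by decide), fun _ h => absurd h List.not_mem_nil⟩)
    rel9_fix (by simp [lab, wev, permLetters, letters, C2, C3, C4, C5, CE, pow_succ, mul_assoc])
    (hlt 12 (by simp))
  have h13 : Agree 13 := agree_inv h12 (hinv 12 (by simp))
    (by simp [lab, permLetters, letters])
  have h14 : Agree 14 := agree_head (by
      simp only [List.forall_mem_cons]
      exact ⟨h9, hs 5 (by decide), h8, hs 4 (by decide), fun _ h => absurd h List.not_mem_nil⟩)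
    rel10_fix (by simp [lab, wev, permLetters, letters, C2, C3, C4, C5, CE, pow_succ, mul_assoc])
    (hlt 14 (by simp))
  have h15 : Agree 15 := agree_inv h14 (hinv 14 (by simp))
    (by simp [lab, permLetters, letters])
  have h16 : Agree 16 := agree_head (by
      simp only [List.forall_mem_cons]
      exact ⟨hs 7 (by decide), hs 5 (by decide), hs 7 (by decide), hs 2 (by decide), hs 1 (by decide), hs 3 (by decide), hs 5 (by decide), hs 7 (by decide), hs 1 (by decide), hs 5 (by decide), hs 0 (by decide), hs 5 (by decide), hs 1 (by decide), hs 4 (by decide), hs 0 (by decide), hs 2 (by decide), hs 2 (by decide), fun _ h => absurd h List.not_mem_nil⟩)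
    rel29_fix (by simp [lab, wev, permLetters, letters, C2, C3, C4, C5, CE, pow_succ, mul_assoc])
    (hlt 16 (by simp))
  have h17 : Agree 17 := agree_inv h16 (hinv 16 (by simp))
    (by simp [lab, permLetters, letters])
  intro l hl
  interval_cases l
  · exact hs 0 (by decide)
  · exact hs 1 (by decide)
  · exact hs 2 (by decide)
  · exact hs 3 (by decide)
  · exact hs 4 (by decide)
  · exact hs 5 (by decide)
  · exact hs 6 (by decide)
  · exact hs 7 (by decide)
  · exact h8
  · exact h9
  · exact h10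
  · exact h11
  · exact h12
  · exact h13
  · exact h14
  · exact h15
  · exact h16
  · exact h17

theorem relL_fix : ∀ w ∈ relL, sameP (extPs w) [] = true := by
  simp only [relL, List.forall_mem_cons]
  exact ⟨by decide +kernel, rel1_fix, rel2_fix, rel3_fix, rel4_fix, rel5_fix, rel7_fix, rel8_fix, rel9_fix, rel10_fix, rel11_fix, rel12_fix, rel13_fix, rel14_fix, rel15_fix, rel16_fix, rel17_fix, rel18_fix, rel19_fix, rel20_fix, rel21_fix, rel22_fix, rel23_fix, rel24_fix, rel25_fix, rel26_fix, rel27_fix, rel28_fix, rel29_fix, rel30_fix, rel31_fix, rel32_fix, rel33_fix, rel34_fix, rel35_fix, rel36_fix, rel37_fix, rel38_fix, rel39_fix, rel40_fix, rel41_fix, rel42_fix, rel43_fix, rel44_fix, fun _ h => absurd h List.not_mem_nil⟩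

theorem relL_lt : ∀ w ∈ relL, ∀ l ∈ w, l < 18 := by decide

theorem lyRel_perm : LyRel (permRep.f 0) (permRep.f 2) (permRep.f 4) (permRep.f 6) := by
  refine lyRel_of_words fun w hw => perm_ext fun p hp => ?_
  have h := runP_extPs w (fun l hl => agree_all l (relL_lt w hw l hl)) p hp
  rw [sameP_spec (relL_fix w hw) p hp] at h
  rw [permRep.pt_one]
  exact h.symm

/-- the group generated by the four permutations -/
noncomputable def Hbar : Subgroup (Equiv.Perm (Fin 19530)) :=
  Subgroup.closure {permRep.f 0, permRep.f 2, permRep.f 4, permRep.f 6}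

theorem permRep_f_mem : ∀ l : ℕ, permRep.f l ∈ Hbar := by
  intro l
  have h0 : permRep.f 0 ∈ Hbar := Subgroup.subset_closure (by simp)
  have h2 : permRep.f 2 ∈ Hbar := Subgroup.subset_closure (by simp)
  have h4 : permRep.f 4 ∈ Hbar := Subgroup.subset_closure (by simp)
  have h6 : permRep.f 6 ∈ Hbar := Subgroup.subset_closure (by simp)
  by_cases hl : l < 8
  · interval_cases l
    · exact h0
    · exact (permRep_inv 0 (by decide)) ▸ inv_mem h0
    · exact h2
    · exact (permRep_inv 2 (by decide)) ▸ inv_mem h2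
    · exact h4
    · exact (permRep_inv 4 (by decide)) ▸ inv_mem h4
    · exact h6
    · exact (permRep_inv 6 (by decide)) ▸ inv_mem h6
  · show (lyLetter l)⁻¹ ∈ Hbar
    rw [lyLetter, dif_neg hl, inv_one]
    exact one_mem _

/-- the letters inside `Hbar` -/
noncomputable def rep : Rep lyPk Hbar where
  f l := ⟨permRep.f l, permRep_f_mem l⟩
  pt g p := permRep.pt g p
  pt_one p := permRep.pt_one p
  pt_mul a b p := permRep.pt_mul a b p
  pt_lt g p := permRep.pt_lt g p
  pt_f l p := permRep.pt_f l p

theorem rep_f_coe (l : ℕ) : ((rep.f l : Hbar) : Equiv.Perm (Fin 19530)) = permRep.f l := rfl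

theorem rep_f_inv (l : ℕ) (hl : l < 8) : rep.f (l ^^^ 1) = (rep.f l)⁻¹ :=
  Subtype.ext (permRep_inv l hl)

theorem lyBase_lt : ∀ b ∈ lyBase, b < lyPk.n := by rw [lyPk_n]; decide

theorem card_Hbar_aux :
    5859000000 * Nat.card (rep.fixAll lyBase) ≤ Nat.card Hbar := by
  have := rep.orbCard_mul_le lyBase_lt _ lyOrbs_ok ⊤ le_top
  rw [top_inf_eq, Subgroup.card_top] at this
  rwa [show orbCard [lyOrb0, lyOrb1, lyOrb2] = 5859000000 by decide +kernel] at this

theorem card_Hbar : Nat.card Hbar = 5859000000 := by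
  refine le_antisymm (card_closure_le lyRel_perm).2 ?_
  calc 5859000000 ≤ 5859000000 * Nat.card (rep.fixAll lyBase) :=
        Nat.le_mul_of_pos_right _ Nat.card_pos
    _ ≤ _ := card_Hbar_aux

theorem inj_base : rep.Inj lyBase := by
  have h := card_Hbar_aux
  rw [card_Hbar] at h
  have h1 : Nat.card (rep.fixAll lyBase) ≤ 1 := by omega
  have h2 : rep.fixAll lyBase = ⊥ :=
    Subgroup.card_eq_one.1 (le_antisymm h1 Nat.card_pos)
  intro g hg
  have : g ∈ rep.fixAll lyBase := hg
  rw [h2] at this
  exact this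

/-- two words moving the base alike are equal in `Hbar` -/
theorem eq_of_same {u v : List ℕ} (h : lyPk.same lyBase u v = true) : rep.ev u = rep.ev v :=
  rep.eq_of_same lyBase_lt inj_base h

theorem closure_rep :
    Subgroup.closure ({rep.f 0, rep.f 2, rep.f 4, rep.f 6} : Set Hbar) = ⊤ := by
  apply Subgroup.map_injective Hbar.subtype_injective
  rw [MonoidHom.map_closure, ← MonoidHom.range_eq_map, Subgroup.range_subtype]
  simp only [Set.image_insert_eq, Set.image_singleton, Subgroup.coe_subtype]
  rfl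

/-- `Hbar` maps onto every group generated by four elements with the relations -/
theorem exists_hom {G : Type*} [Group G] {a b c d : G} (h : LyRel a b c d) :
    ∃ φ : Hbar →* G, φ (rep.f 0) = a ∧ φ (rep.f 2) = b ∧ φ (rep.f 4) = c ∧ φ (rep.f 6) = d ∧
      φ.range = Subgroup.closure {a, b, c, d} := by
  have hp : LyRel ((permRep.f 0, a) : Equiv.Perm (Fin 19530) × G) (permRep.f 2, b)
      (permRep.f 4, c) (permRep.f 6, d) := by
    have q := lyRel_perm
    constructor <;> refine Prod.ext ?_ ?_
    exacts [q.r1, h.r1, q.r2, h.r2, q.r3, h.r3, q.r4, h.r4, q.r5, h.r5, q.r11, h.r11, q.r12, h.r12, q.r13, h.r13, q.r14, h.r14, q.r15, h.r15, q.r16, h.r16, q.r17, h.r17, q.r18, h.r18, q.r19, h.r19, q.r20, h.r20, q.r21, h.r21, q.r22, h.r22, q.r23, h.r23, q.r24, h.r24, q.r25, h.r25, q.r26, h.r26, q.r27, h.r27, q.r28, h.r28, q.r30, h.r30, q.r31, h.r31, q.r32, h.r32, q.r33, h.r33, q.r34, h.r34, q.r35, h.r35, q.r36, h.r36, q.r37, h.r37, q.r38, h.r38, q.r39, h.r39, q.r40, h.r40, q.r41, h.r41, q.r42, h.r42, q.r43, h.r43,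 q.r44, h.r44]
  obtain ⟨hfin, hle⟩ := card_closure_le hp
  set K := Subgroup.closure ({(permRep.f 0, a), (permRep.f 2, b), (permRep.f 4, c),
    (permRep.f 6, d)} : Set (Equiv.Perm (Fin 19530) × G))
  have hmap : K.map (MonoidHom.fst _ _) = Hbar := by
    simp only [K, Hbar, MonoidHom.map_closure, Set.image_insert_eq, Set.image_singleton,
      MonoidHom.coe_fst]
  let π : K →* Hbar :=
    ((MonoidHom.fst _ _).comp K.subtype).codRestrict Hbar fun x => hmap ▸ ⟨x.1, x.2, rfl⟩
  have hsurj : Function.Surjective π := by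
    rintro ⟨g, hg⟩
    rw [← hmap] at hg
    obtain ⟨x, hx, rfl⟩ := hg
    exact ⟨⟨x, hx⟩, rfl⟩
  have hbij : Function.Bijective π :=
    (Function.Surjective.bijective_of_nat_card_le hsurj (hle.trans card_Hbar.ge))
  let e := MulEquiv.ofBijective π hbij
  let φ : Hbar →* G := ((MonoidHom.snd _ _).comp K.subtype).comp e.symm.toMonoidHom
  have key : ∀ l x, (permRep.f l, x) ∈ ({(permRep.f 0, a), (permRep.f 2, b), (permRep.f 4, c),
      (permRep.f 6, d)} : Set (Equiv.Perm (Fin 19530) × G)) → φ (rep.f l) = x := by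
    intro l x hx
    have hs : e.symm (rep.f l) = ⟨(permRep.f l, x), Subgroup.subset_closure hx⟩ :=
      e.symm_apply_eq.2 rfl
    simp only [φ, MonoidHom.comp_apply, MulEquiv.coe_toMonoidHom, hs, Subgroup.coe_subtype,
      MonoidHom.coe_snd]
  have k0 := key 0 a (by simp)
  have k2 := key 2 b (by simp)
  have k4 := key 4 c (by simp)
  have k6 := key 6 d (by simp)
  refine ⟨φ, k0, k2, k4, k6, ?_⟩
  rw [MonoidHom.range_eq_map, ← closure_rep, MonoidHom.map_closure]
  simp only [Set.image_insert_eq, Set.image_singleton, k0, k2, k4, k6]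

/-- the value of a packed word in the eight letters -/
noncomputable def wordVal {G : Type*} [Group G] (a b c d : G) (u : List ℕ) : G :=
  ((decode u).map (letters a b c d)).prod

/-- two words moving the base alike are equal in every group with the relations -/
theorem word_eq {G : Type*} [Group G] {a b c d : G} (h : LyRel a b c d) {u v : List ℕ}
    (huv : lyPk.same lyBase u v = true) : wordVal a b c d u = wordVal a b c d v := by
  obtain ⟨φ, k0, k2, k4, k6, -⟩ := exists_hom h
  have hl : ∀ l < 8, φ (rep.f l) = letters a b c d l := by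
    have k1 := congrArg φ (rep_f_inv 0 (by decide))
    have k3 := congrArg φ (rep_f_inv 2 (by decide))
    have k5 := congrArg φ (rep_f_inv 4 (by decide))
    have k7 := congrArg φ (rep_f_inv 6 (by decide))
    simp only [map_inv, k0, k2, k4, k6] at k1 k3 k5 k7
    intro l hl
    interval_cases l
    exacts [k0, k1, k2, k3, k4, k5, k6, k7]
  have hv : ∀ w : List ℕ, φ (rep.ev w) = wordVal a b c d w := fun w => by
    rw [Rep.ev, map_list_prod, List.map_map, wordVal]
    exact congrArg List.prod (List.map_congr_left fun l hm => hl l (mem_decode_lt hm))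
  rw [← hv, ← hv, eq_of_same huv]

end Cfsg.Agent.Lib.LyH
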