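import Cfsg.Prelude.Def_ChevG2
import Cfsg.Agent.Lib.LyMat14.Units
import Cfsg.Agent.Lib.LyH.Words
import Cfsg.Agent.Lib.LyH.IsoData

/-! Matrix checks for the map onto G2 over five elements. -/

namespace Cfsg.Agent.Lib.LyH

open LyMat14 (matOf gen Good wordEq)
open Cfsg.Lie

/-- a word of extended letters as a word in the root elements -/
def subW (w : List ℕ) : List ℕ :=
  let p := fun i => letterWords.getD i []
  let c2 := p 1 ++ p 4 ++ p 0
  let c2i := p 1 ++ p 5 ++ p 0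
  let c3 := p 3 ++ p 4 ++ p 2
  let c3i := p 3 ++ p 5 ++ p 2
  let c4 := p 2 ++ p 4 ++ p 3
  let c4i := p 2 ++ p 5 ++ p 3
  let c5 := p 5 ++ c2i ++ p 4 ++ c2
  let c5i := c2i ++ p 5 ++ c2 ++ p 4
  let e := p 3 ++ p 3 ++ p 1 ++ p 5 ++ p 0 ++ p 4 ++ p 1 ++ p 4 ++ p 0 ++ p 6 ++ p 4 ++ p 2 ++
    p 0 ++ p 3 ++ p 6 ++ p 4 ++ p 6
  let ei := p 7 ++ p 5 ++ p 7 ++ p 2 ++ p 1 ++ p 3 ++ p 5 ++ p 7 ++ p 1 ++ p 5 ++ p 0 ++ p 5 ++
    p 1 ++ p 4 ++ p 0 ++ p 2 ++ p 2
  let tab := [p 0, p 1, p 2, p 3, p 4, p 5, p 6, p 7, c2, c2i, c3, c3i, c4, c4i, c5, c5i, e, ei]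
  (w.map fun l => tab.getD l []).flatten

/-- the position of a coordinate -/
def idxPos : chevG2.Idx ≃ Fin 14 := finSumFinEquiv

set_option maxRecDepth 100000
set_option maxHeartbeats 0

theorem rootGood : Good 14 rootRows rootInv :=
  ⟨by decide, by decide +kernel, by decide +kernel⟩

theorem rels_ok : relL.all (fun w => wordEq 14 rootRows (subW w) []) = true := by decide +kernel

theorem inv_ok : ([0, 2, 4, 6].all fun l => wordEq 14 rootRows (subW [l, l + 1]) []) = true := by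
  decide +kernel

theorem roots_ok : ((List.range 12).all fun r =>
    wordEq 14 rootRows (subW (rootWords.getD r [])) [5 * r + 1]) = true := by decide +kernel

theorem pows_ok : ((List.range 60).all fun k =>
    wordEq 14 rootRows (List.replicate (k % 5) (5 * (k / 5) + 1)) [k]) = true := by decide +kernel

theorem rootWords_lt : ∀ w ∈ rootWords, ∀ l ∈ w, l < 8 := by decide

instance factPrimeFiveLy : Fact (Nat.Prime 5) := ⟨by norm_num⟩

theorem rootMat_val : ∀ (r : Fin chevG2.nroots) (t : Fin 5) (i j : chevG2.Idx),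
    ZMod.val (matOf 14 (gen rootRows (5 * r.val + t.val)) (idxPos i) (idxPos j)) =
      ZMod.val (chevG2.xMat (ZMod 5) r (t.val : ZMod 5) i j) := by
  decide +kernel

theorem rootMat_ok (r : Fin chevG2.nroots) (t : Fin 5) (i j : chevG2.Idx) :
    matOf 14 (gen rootRows (5 * r.val + t.val)) (idxPos i) (idxPos j) =
      chevG2.xMat (ZMod 5) r (t.val : ZMod 5) i j :=
  ZMod.val_injective 5 (rootMat_val r t i j)

end Cfsg.Agent.Lib.LyH
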