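import Cfsg.Agent.Lib.LyH.Hbar
import Cfsg.Agent.Lib.LyH.IsoCheck
import Cfsg.Agent.S1059
import Cfsg.Agent.S1055

/-!
`Hbar` is G2 over the field with five elements; so is every nontrivial group generated by four
elements with the relations 1-44.
-/

namespace Cfsg.Agent.Lib.LyH

open LyMat14 (matOf gen Good wordEq wunit wunit_eq wunit_append MatUnits coe_wunit)
open Cfsg.Lie

theorem map_letters {G H : Type*} [Group G] [Group H] (φ : G →* H) (a b c d : G) (l : ℕ)
    (h : l < 18) : φ (letters a b c d l) = letters (φ a) (φ b) (φ c) (φ d) l := by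
  interval_cases l <;> simp [letters, map_C2, map_C3, map_C4, map_C5, map_CE]

theorem map_wev {G H : Type*} [Group G] [Group H] (φ : G →* H) (a b c d : G) (w : List ℕ) :
    φ (wev (letters a b c d) w) = wev (letters (φ a) (φ b) (φ c) (φ d)) w := by
  rw [wev, map_list_prod, List.map_map, wev]
  refine congrArg List.prod (List.map_congr_left fun l _ => ?_)
  simp only [Function.comp, lab]
  split_ifs
  · exact map_letters φ a b c d l (by assumption)
  · exact map_one φ

/-- a letter as a unit -/
noncomputable def mLetter (l : ℕ) : MatUnits 14 := wunit rootGood (subW [l])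

theorem mLetter_inv : ∀ l ∈ [0, 2, 4, 6], mLetter (l + 1) = (mLetter l)⁻¹ := by
  intro l hl
  refine eq_inv_of_mul_eq_one_right ?_
  have h := List.all_eq_true.1 inv_ok l hl
  rw [mLetter, mLetter, ← wunit_append]
  have e : subW [l] ++ subW [l + 1] = subW [l, l + 1] := by simp [subW]
  rw [e, wunit_eq rootGood h]
  rfl

theorem wunit_subW : ∀ w : List ℕ,
    wunit rootGood (subW w) =
      wev (letters (mLetter 0) (mLetter 2) (mLetter 4) (mLetter 6)) w
  | [] => rfl
  | l :: w => by
    have e : subW (l :: w) = subW [l] ++ subW w := by simp [subW]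
    rw [e, wunit_append, wunit_subW w, wev_cons]
    congr 1
    show mLetter l = _
    have h1 := mLetter_inv 0 (by simp)
    have h3 := mLetter_inv 2 (by simp)
    have h5 := mLetter_inv 4 (by simp)
    have h7 := mLetter_inv 6 (by simp)
    by_cases h : l < 18
    · rw [lab, if_pos h]
      interval_cases l
      · rfl
      · exact h1
      · rfl
      · exact h3
      · rfl
      · exact h5
      · rfl
      · exact h7
      all_goals
        simp only [letters, List.getD_cons_succ, List.getD_cons_zero, C2, C3, C4, C5, CE,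
          mul_inv_rev, inv_inv, pow_two, mul_assoc]
        simp only [← h1, ← h3, ← h5, ← h7]
        simp only [mLetter, subW, List.map_cons, List.map_nil, List.flatten_cons,
          List.flatten_nil, List.append_nil, List.getD_cons_succ, List.getD_cons_zero,
          wunit_append, List.append_assoc, mul_assoc]
    · rw [lab_of_ge h, mLetter, subW]
      simp only [List.map_cons, List.map_nil, List.flatten_cons, List.flatten_nil, List.append_nil]
      rw [List.getD_eq_default]
      · rfl
      · simp only [List.length_cons, List.length_nil]; omega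

theorem lyRel_units : LyRel (mLetter 0) (mLetter 2) (mLetter 4) (mLetter 6) := by
  refine lyRel_of_words fun w hw => ?_
  rw [← wunit_subW]
  exact wunit_eq rootGood (List.all_eq_true.1 rels_ok w hw)

/-- matrices on the coordinates of the adjoint module, by position -/
noncomputable def toUnits : GL chevG2.Idx (ZMod 5) →* MatUnits 14 :=
  Units.map (Matrix.reindexAlgEquiv (ZMod 5) (ZMod 5) idxPos).toMonoidHom

theorem toUnits_injective : Function.Injective toUnits :=
  Units.map_injective (Matrix.reindexAlgEquiv (ZMod 5) (ZMod 5) idxPos).injective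

/-- the root element number `k` -/
noncomputable def rootGL (k : ℕ) : GL chevG2.Idx (ZMod 5) :=
  Units.map (Matrix.reindexAlgEquiv (ZMod 5) (ZMod 5) idxPos).symm.toMonoidHom
    (wunit rootGood [k])

theorem toUnits_rootGL (k : ℕ) : toUnits (rootGL k) = wunit rootGood [k] := by
  refine Units.ext ?_
  simp [toUnits, rootGL]

theorem coe_rootGL (r : Fin chevG2.nroots) (t : Fin 5) :
    ((rootGL (5 * r.val + t.val) : GL chevG2.Idx (ZMod 5)) :
      Matrix chevG2.Idx chevG2.Idx (ZMod 5)) = chevG2.xMat (ZMod 5) r (t.val : ZMod 5) := by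
  have hr : r.val < 12 := r.2
  have hw : LyMat14.wordGood rootRows [5 * r.val + t.val] = true := by
    simp only [LyMat14.wordGood, List.all_cons, List.all_nil, Bool.and_true, Nat.blt_eq]
    have hl : rootRows.length = 60 := by decide
    have := t.2
    omega
  ext i j
  have e : ((rootGL (5 * r.val + t.val) : GL chevG2.Idx (ZMod 5)) :
      Matrix chevG2.Idx chevG2.Idx (ZMod 5)) i j =
      (wunit rootGood [5 * r.val + t.val] : Matrix (Fin 14) (Fin 14) (ZMod 5)) (idxPos i)
        (idxPos j) := by
    simp [rootGL]
  rw [e, coe_wunit rootGood hw]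
  simp only [LyMat14.wmat, List.map_cons, List.map_nil, List.prod_cons, List.prod_nil, mul_one]
  exact rootMat_ok r t i j

theorem rootGL_mem {k : ℕ} (hk : k < 60) : rootGL k ∈ chevG2.group (ZMod 5) := by
  refine Subgroup.subset_closure ⟨⟨k / 5, by show k / 5 < 12; omega⟩,
    (((⟨k % 5, Nat.mod_lt _ (by norm_num)⟩ : Fin 5).val : ℕ) : ZMod 5), ?_⟩
  have h := coe_rootGL ⟨k / 5, by show k / 5 < 12; omega⟩ ⟨k % 5, Nat.mod_lt _ (by norm_num)⟩
  simpa [Nat.div_add_mod] using h

/-- the group -/
abbrev G25 : Type := chevG2.group (ZMod 5)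

/-- `toUnits` on the group -/
noncomputable def g25Hom : G25 →* MatUnits 14 := toUnits.comp (Subgroup.subtype _)

theorem g25Hom_injective : Function.Injective g25Hom :=
  toUnits_injective.comp Subtype.val_injective

theorem wunit_mem_range : ∀ w : List ℕ, (∀ k ∈ w, k < 60) → wunit rootGood w ∈ g25Hom.range
  | [], _ => one_mem _
  | k :: w, h => by
    rw [show k :: w = [k] ++ w from rfl, wunit_append]
    refine mul_mem ⟨⟨rootGL k, rootGL_mem (h k (by simp))⟩, toUnits_rootGL k⟩ ?_
    exact wunit_mem_range w fun x hx => h x (by simp [hx])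

theorem g25_lyRel : ∃ a b c d : G25, LyRel a b c d ∧ Subgroup.closure {a, b, c, d} = ⊤ := by
  obtain ⟨a, ha⟩ := wunit_mem_range (subW [0]) (by decide)
  obtain ⟨b, hb⟩ := wunit_mem_range (subW [2]) (by decide)
  obtain ⟨c, hc⟩ := wunit_mem_range (subW [4]) (by decide)
  obtain ⟨d, hd⟩ := wunit_mem_range (subW [6]) (by decide)
  change g25Hom a = mLetter 0 at ha
  change g25Hom b = mLetter 2 at hb
  change g25Hom c = mLetter 4 at hc
  change g25Hom d = mLetter 6 at hd
  have hval : ∀ w : List ℕ, g25Hom (wev (letters a b c d) w) = wunit rootGood (subW w) := by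
    intro w
    rw [map_wev, ha, hb, hc, hd, wunit_subW]
  refine ⟨a, b, c, d, lyRel_of_words fun w hw => g25Hom_injective ?_, eq_top_iff.2 ?_⟩
  · rw [hval, map_one]
    exact wunit_eq rootGood (List.all_eq_true.1 rels_ok w hw)
  · have hmem : ∀ w : List ℕ, (∀ l ∈ w, l < 8) →
        wev (letters a b c d) w ∈ Subgroup.closure ({a, b, c, d} : Set G25) := by
      intro w hw
      refine Subgroup.list_prod_mem _ fun x hx => ?_
      obtain ⟨l, hl, rfl⟩ := List.mem_map.1 hx
      have h8 := hw l hl
      have h0 : a ∈ Subgroup.closure ({a, b, c, d} : Set G25) := Subgroup.subset_closure (by simp)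
      have h2 : b ∈ Subgroup.closure ({a, b, c, d} : Set G25) := Subgroup.subset_closure (by simp)
      have h4 : c ∈ Subgroup.closure ({a, b, c, d} : Set G25) := Subgroup.subset_closure (by simp)
      have h6 : d ∈ Subgroup.closure ({a, b, c, d} : Set G25) := Subgroup.subset_closure (by simp)
      rw [lab, if_pos (by omega)]
      interval_cases l
      exacts [h0, inv_mem h0, h2, inv_mem h2, h4, inv_mem h4, h6, inv_mem h6]
    rintro ⟨g, hg⟩ -
    have key : chevG2.group (ZMod 5) ≤
        (Subgroup.closure ({a, b, c, d} : Set G25)).map (Subgroup.subtype _) := by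
      conv_lhs => rw [ChevalleyDatum.group]
      rw [Subgroup.closure_le]
      rintro x ⟨r, t, hx⟩
      have hr : r.val < 12 := r.2
      have hx' : x = rootGL (5 * r.val + t.val) := Units.ext (by
        rw [hx, coe_rootGL r ⟨t.val, ZMod.val_lt t⟩, ZMod.natCast_zmod_val t])
      have hk : 5 * r.val + t.val < 60 := by have := ZMod.val_lt t; omega
      have hlt : ∀ l ∈ rootWords.getD r.val [], l < 8 := by
        have hr' : r.val < rootWords.length := hr
        rw [List.getD_eq_getElem _ _ hr']
        exact rootWords_lt _ (List.getElem_mem hr')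
      refine ⟨wev (letters a b c d) (rootWords.getD r.val []) ^ t.val,
        pow_mem (hmem _ hlt) _, toUnits_injective ?_⟩
      show g25Hom (wev (letters a b c d) (rootWords.getD r.val []) ^ t.val) = toUnits x
      rw [map_pow, hval, wunit_eq rootGood (List.all_eq_true.1 roots_ok r.val
        (List.mem_range.2 hr)), hx', toUnits_rootGL,
        ← wunit_eq rootGood (List.all_eq_true.1 pows_ok (5 * r.val + t.val)
          (List.mem_range.2 hk))]
      have h5 : t.val < 5 := ZMod.val_lt t
      rw [show (5 * r.val + t.val) % 5 = t.val by omega,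
        show (5 * r.val + t.val) / 5 = r.val by omega]
      simp [wunit]
    obtain ⟨y, hy, he⟩ := key hg
    have : y = ⟨g, hg⟩ := Subtype.ext he
    exact this ▸ hy

theorem card_g25 : Nat.card G25 = 5859000000 :=
  (Cfsg.Agent.S1059.result (ZMod.card 5)).trans (by norm_num)

/-- `Hbar` is G2(5) -/
theorem hbar_iso : Nonempty (Hbar ≃* G25) := by
  obtain ⟨a, b, c, d, h, htop⟩ := g25_lyRel
  obtain ⟨φ, -, -, -, -, hr⟩ := exists_hom h
  rw [htop] at hr
  have : Finite Hbar := Nat.finite_of_card_ne_zero (by rw [card_Hbar]; norm_num)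
  exact ⟨MulEquiv.ofBijective φ ((MonoidHom.range_eq_top.1 hr).bijective_of_nat_card_le
    (by rw [card_Hbar, card_g25]))⟩

theorem isSimple_g25 : IsSimpleGroup G25 :=
  (Cfsg.Agent.S1055.result ⟨2, by decide, by decide⟩).1

theorem isSimpleGroup_Hbar : IsSimpleGroup Hbar :=
  hbar_iso.elim fun e => @MulEquiv.isSimpleGroup _ _ _ _ isSimple_g25 e

/-- a nontrivial group generated by four elements with the relations is G2(5) -/
theorem closure_iso {G : Type*} [Group G] {a b c d : G} (h : LyRel a b c d) (ha : a ≠ 1) :
    Nonempty (Subgroup.closure ({a, b, c, d} : Set G) ≃* G25) := by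
  obtain ⟨φ, k0, -, -, -, hr⟩ := exists_hom h
  obtain ⟨e⟩ := hbar_iso
  have := isSimple_g25
  have hb : IsSimpleGroup Hbar := e.isSimpleGroup
  have hinj : Function.Injective φ := by
    rcases φ.normal_ker.eq_bot_or_eq_top with hk | hk
    · exact (MonoidHom.ker_eq_bot_iff φ).1 hk
    · exfalso
      refine ha ?_
      rw [← k0, ← MonoidHom.mem_ker, hk]
      trivial
  exact ⟨((MulEquiv.subgroupCongr hr.symm).trans (MonoidHom.ofInjective hinj).symm).trans e⟩

end Cfsg.Agent.Lib.LyH
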