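import Cfsg.Agent.Lib.LyH.HData

/-! Evaluation of a list of packed permutations along a word of extended letters. -/

namespace Cfsg.Agent.Lib.LyH

/-- the permutation of an extended letter -/
noncomputable def extP (l : Nat) : Nat := nth 0 (lyPk.ps ++ lyExt) l

/-- the permutations of a word -/
noncomputable def extPs (w : List Nat) : List Nat :=
  List.rec (motive := fun _ => List Nat) [] (fun l _ ih => extP l :: ih) w

/-- follow a list of packed permutations -/
noncomputable def runP (ps : List Nat) : Nat → Nat :=
  List.rec (motive := fun _ => Nat → Nat) (fun p => p) (fun P _ ih p => hold (at16 P p) ih) ps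

/-- two lists of permutations agree on all points -/
noncomputable def sameP (ps qs : List Nat) : Bool :=
  belowB (fun p => Nat.beq (runP ps p) (runP qs p)) 19530

end Cfsg.Agent.Lib.LyH
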