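import Cfsg.Agent.Lib.LyH.Eval

/-! Some relators fix all points. -/

namespace Cfsg.Agent.Lib.LyH

set_option maxRecDepth 100000
set_option maxHeartbeats 0

theorem rel1_fix : sameP (extPs [0, 0, 0, 0, 0, 0, 0, 0]) [] = true := by decide +kernel

theorem rel10_fix : sameP (extPs [14, 9, 5, 8, 4]) [] = true := by decide +kernel

theorem rel13_fix : sameP (extPs [5, 15, 4, 14]) [] = true := by decide +kernel

theorem rel27_fix : sameP (extPs [3, 10, 2, 10, 10, 13, 5, 5]) [] = true := by decide +kernel

end Cfsg.Agent.Lib.LyH
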