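import Cfsg.Agent.Lib.LyH.Check

/-! Certificate data for a level of the chain, produced by a coset enumeration. -/

namespace Cfsg.Agent.Lib.LyH.L2

open CosetTable (T)

/-- relators, subgroup words, facts and definitions -/
def cert : Cert where
  rels := [[], [14, 14, 14, 14, 14], [1, 14, 0, 15, 15], [3, 14, 2, 15]]
  subs := [[0], [2]]
  facts := (T.leaf 0xc00006200000c00002000001000008200001000006000000800004200000800008000000400002200000400004000000800002100001000004100000400006100000400002300000800004300000c00006300001000008300000c00008100001000000e00000c00008e00000800006e00000400004e00000000002e000000000002000000000000)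
  defs := (T.leaf 0x6e00000000004e00000000002e00000000000e00000000001f)

/-- the final table -/
def table : Table where
  n := 5
  gens := [0, 2, 14]
  node := 0x3000004000002000001000000
  perms := [0x10004000300020000, 0x40003000200010000, 0x30000000400020001]
  eids := [0x1500001300001100000f000000, 0x16000014000012000010000001, 0x5000006000004000003000002]

end Cfsg.Agent.Lib.LyH.L2
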