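import Mathlib
import Cfsg.Prelude.Def_Spor_Ly

/-!
The relations 1-44 of the presentation of the Lyons group, on four elements `a b c d` of a group;
the generators `c1 .. c5` and `e` are replaced by their defining words.
-/

namespace Cfsg.Agent.Lib.LyH

variable {G : Type*} [Group G]

/-- `c2 = c^a` -/
def C2 (a c : G) : G := a⁻¹ * c * a

/-- `c3 = c^b` -/
def C3 (b c : G) : G := b⁻¹ * c * b

/-- `c4 = c^(b⁻¹)` -/
def C4 (b c : G) : G := (b⁻¹)⁻¹ * c * (b⁻¹)

/-- `c5 = [c1, c2]` -/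
def C5 (a c : G) : G := c⁻¹ * (C2 a c)⁻¹ * c * C2 a c

/-- the element `e` of relation 29 -/
def CE (a b c d : G) : G :=
  ((b ^ 2)⁻¹) * (a⁻¹ * c⁻¹ * a * c) * (a⁻¹) * c * a * d * c * b * a * (b⁻¹) * d * c * d

/-- four elements satisfying the relations 1-44 -/
structure LyRel (a b c d : G) : Prop where
  r1 : a ^ 8 = 1
  r2 : b ^ 5 = 1
  r3 : (a * b) ^ 4 = 1
  r4 : (a ^ 2)⁻¹ * b⁻¹ * (a ^ 2) * b = 1
  r5 : (a⁻¹ * b⁻¹ * a * b) ^ 3 = 1
  r11 : c ^ 5 = 1
  r12 : (C5 a c) ^ 5 = 1
  r13 : c⁻¹ * (C5 a c)⁻¹ * c * (C5 a c) = 1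
  r14 : (C2 a c)⁻¹ * (C5 a c)⁻¹ * (C2 a c) * (C5 a c) = 1
  r15 : (C3 b c)⁻¹ * (C5 a c)⁻¹ * (C3 b c) * (C5 a c) = 1
  r16 : (C4 b c)⁻¹ * (C5 a c)⁻¹ * (C4 b c) * (C5 a c) = 1
  r17 : (c⁻¹ * (C3 b c)⁻¹ * c * (C3 b c)) * ((((C5 a c) ^ 2)⁻¹)⁻¹) = 1
  r18 : (c⁻¹ * (C4 b c)⁻¹ * c * (C4 b c)) * (((C5 a c) ^ 2)⁻¹) = 1
  r19 : ((C2 a c)⁻¹ * (C3 b c)⁻¹ * (C2 a c) * (C3 b c)) * (((C5 a c)⁻¹)⁻¹) = 1
  r20 : (C2 a c)⁻¹ * (C4 b c)⁻¹ * (C2 a c) * (C4 b c) = 1
  r21 : ((C3 b c)⁻¹ * (C4 b c)⁻¹ * (C3 b c) * (C4 b c)) * (((C5 a c)⁻¹)⁻¹) = 1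
  r22 : (a⁻¹ * (C2 a c) * a) * (((c ^ 2)⁻¹)⁻¹) = 1
  r23 : (a⁻¹ * (C3 b c) * a) * (((((C3 b c) ^ 2)⁻¹) * c * (C4 b c))⁻¹) = 1
  r24 : (a⁻¹ * (C4 b c) * a) * ((c * ((C2 a c)⁻¹) * ((C3 b c)⁻¹) * (C4 b c) * c * (C4 b c))⁻¹) = 1
  r25 : (a⁻¹ * (C5 a c) * a) * (((C5 a c) ^ 2)⁻¹) = 1
  r26 : (b⁻¹ * (C2 a c) * b) * (((C2 a c) * (C3 b c) * ((C4 b c)⁻¹) * (c⁻¹) * ((C4 b c)⁻¹))⁻¹) = 1
  r27 : (b⁻¹ * (C3 b c) * b) * (((c ^ 2) * (C4 b c) * (((C3 b c) ^ 2)⁻¹))⁻¹) = 1
  r28 : (b⁻¹ * (C5 a c) * b) * ((C5 a c)⁻¹) = 1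
  r30 : (CE a b c d) ^ 2 = 1
  r31 : ((CE a b c d)⁻¹ * c * (CE a b c d)) * ((b * (C3 b c) * b * (c⁻¹))⁻¹) = 1
  r32 : ((CE a b c d)⁻¹ * (C3 b c) * (CE a b c d)) * (((b ^ 2) * a * (C2 a c) * (c⁻¹) * ((C4 b c)⁻¹) * (a⁻¹))⁻¹) = 1
  r33 : ((CE a b c d)⁻¹ * (C4 b c) * (CE a b c d)) * (((b ^ 2) * ((C3 b c)⁻¹) * (C4 b c))⁻¹) = 1
  r34 : ((CE a b c d)⁻¹ * (C5 a c) * (CE a b c d)) * ((c * ((C3 b c)⁻¹) * c * ((C4 b c)⁻¹))⁻¹) = 1
  r35 : ((CE a b c d) * (a ^ 2) * (CE a b c d)) * ((a * (b ^ 2) * a * (b⁻¹) * a * c * (C5 a c) * ((C4 b c)⁻¹))⁻¹) = 1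
  r36 : ((CE a b c d)⁻¹ * b * (CE a b c d)) * ((c * ((C3 b c)⁻¹) * (((C4 b c) ^ 2)⁻¹))⁻¹) = 1
  r37 : ((CE a b c d) * a * (b ^ 2) * a * (b⁻¹) * a * (CE a b c d)) * (((a ^ 2) * c * (C5 a c) * ((C4 b c)⁻¹))⁻¹) = 1
  r38 : (CE a b c d) * (C2 a c) * (CE a b c d) * ((C2 a c)⁻¹) * (CE a b c d) * (C2 a c) * ((C4 b c)⁻¹) * a * (C3 b c) * (a ^ 3) = 1
  r39 : d * ((a * (b ^ 2) * (a⁻¹) * (b⁻¹) * (c⁻¹) * ((C4 b c)⁻¹) * ((C5 a c)⁻¹) * a * (CE a b c d) * a * (CE a b c d) * a * ((C2 a c)⁻¹) * b * (CE a b c d))⁻¹) = 1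
  r40 : (d ^ 2) * ((a ^ 4)⁻¹) = 1
  r41 : b⁻¹ * d⁻¹ * b * d = 1
  r42 : (d⁻¹ * a * d) * ((a ^ 3)⁻¹) = 1
  r43 : (d * (C5 a c)) ^ 5 = 1
  r44 : d * (C5 a c) * d * ((C5 a c)⁻¹) * d * (C5 a c) * ((a ^ 2)⁻¹) = 1

variable {G' : Type*} [Group G'] (φ : G →* G')

theorem map_C2 (a c : G) : φ (C2 a c) = C2 (φ a) (φ c) := by simp [C2]

theorem map_C3 (b c : G) : φ (C3 b c) = C3 (φ b) (φ c) := by simp [C3]

theorem map_C4 (b c : G) : φ (C4 b c) = C4 (φ b) (φ c) := by simp [C4]

theorem map_C5 (a c : G) : φ (C5 a c) = C5 (φ a) (φ c) := by simp [C5, map_C2]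

theorem map_CE (a b c d : G) : φ (CE a b c d) = CE (φ a) (φ b) (φ c) (φ d) := by simp [CE]

theorem LyRel.map {a b c d : G} (h : LyRel a b c d) : LyRel (φ a) (φ b) (φ c) (φ d) := by
  constructor
  · simpa [map_C2, map_C3, map_C4, map_C5, map_CE] using congrArg φ h.r1
  · simpa [map_C2, map_C3, map_C4, map_C5, map_CE] using congrArg φ h.r2
  · simpa [map_C2, map_C3, map_C4, map_C5, map_CE] using congrArg φ h.r3
  · simpa [map_C2, map_C3, map_C4, map_C5, map_CE] using congrArg φ h.r4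
  · simpa [map_C2, map_C3, map_C4, map_C5, map_CE] using congrArg φ h.r5
  · simpa [map_C2, map_C3, map_C4, map_C5, map_CE] using congrArg φ h.r11
  · simpa [map_C2, map_C3, map_C4, map_C5, map_CE] using congrArg φ h.r12
  · simpa [map_C2, map_C3, map_C4, map_C5, map_CE] using congrArg φ h.r13
  · simpa [map_C2, map_C3, map_C4, map_C5, map_CE] using congrArg φ h.r14
  · simpa [map_C2, map_C3, map_C4, map_C5, map_CE] using congrArg φ h.r15
  · simpa [map_C2, map_C3, map_C4, map_C5, map_CE] using congrArg φ h.r16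
  · simpa [map_C2, map_C3, map_C4, map_C5, map_CE] using congrArg φ h.r17
  · simpa [map_C2, map_C3, map_C4, map_C5, map_CE] using congrArg φ h.r18
  · simpa [map_C2, map_C3, map_C4, map_C5, map_CE] using congrArg φ h.r19
  · simpa [map_C2, map_C3, map_C4, map_C5, map_CE] using congrArg φ h.r20
  · simpa [map_C2, map_C3, map_C4, map_C5, map_CE] using congrArg φ h.r21
  · simpa [map_C2, map_C3, map_C4, map_C5, map_CE] using congrArg φ h.r22
  · simpa [map_C2, map_C3, map_C4, map_C5, map_CE] using congrArg φ h.r23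
  · simpa [map_C2, map_C3, map_C4, map_C5, map_CE] using congrArg φ h.r24
  · simpa [map_C2, map_C3, map_C4, map_C5, map_CE] using congrArg φ h.r25
  · simpa [map_C2, map_C3, map_C4, map_C5, map_CE] using congrArg φ h.r26
  · simpa [map_C2, map_C3, map_C4, map_C5, map_CE] using congrArg φ h.r27
  · simpa [map_C2, map_C3, map_C4, map_C5, map_CE] using congrArg φ h.r28
  · simpa [map_C2, map_C3, map_C4, map_C5, map_CE] using congrArg φ h.r30
  · simpa [map_C2, map_C3, map_C4, map_C5, map_CE] using congrArg φ h.r31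
  · simpa [map_C2, map_C3, map_C4, map_C5, map_CE] using congrArg φ h.r32
  · simpa [map_C2, map_C3, map_C4, map_C5, map_CE] using congrArg φ h.r33
  · simpa [map_C2, map_C3, map_C4, map_C5, map_CE] using congrArg φ h.r34
  · simpa [map_C2, map_C3, map_C4, map_C5, map_CE] using congrArg φ h.r35
  · simpa [map_C2, map_C3, map_C4, map_C5, map_CE] using congrArg φ h.r36
  · simpa [map_C2, map_C3, map_C4, map_C5, map_CE] using congrArg φ h.r37
  · simpa [map_C2, map_C3, map_C4, map_C5, map_CE] using congrArg φ h.r38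
  · simpa [map_C2, map_C3, map_C4, map_C5, map_CE] using congrArg φ h.r39
  · simpa [map_C2, map_C3, map_C4, map_C5, map_CE] using congrArg φ h.r40
  · simpa [map_C2, map_C3, map_C4, map_C5, map_CE] using congrArg φ h.r41
  · simpa [map_C2, map_C3, map_C4, map_C5, map_CE] using congrArg φ h.r42
  · simpa [map_C2, map_C3, map_C4, map_C5, map_CE] using congrArg φ h.r43
  · simpa [map_C2, map_C3, map_C4, map_C5, map_CE] using congrArg φ h.r44

open Cfsg.Spor in
/-- the images of `a b c d` satisfy the relations -/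
theorem lyRel_of_extra (ψ : FreeGroup Ly.Gen →* G) (h : ∀ r ∈ Ly.extra, ψ r = 1) :
    LyRel (ψ Ly.a) (ψ Ly.b) (ψ Ly.c) (ψ Ly.d) ∧
      ψ Ly.c1 = ψ Ly.c ∧ ψ Ly.c2 = C2 (ψ Ly.a) (ψ Ly.c) ∧ ψ Ly.c3 = C3 (ψ Ly.b) (ψ Ly.c) ∧
      ψ Ly.c4 = C4 (ψ Ly.b) (ψ Ly.c) ∧ ψ Ly.c5 = C5 (ψ Ly.a) (ψ Ly.c) ∧
      ψ Ly.e = CE (ψ Ly.a) (ψ Ly.b) (ψ Ly.c) (ψ Ly.d) := by
  have e6 := h _ (List.getElem_mem (l := Ly.extra) (n := 5) (by decide))
  have e7 := h _ (List.getElem_mem (l := Ly.extra) (n := 6) (by decide))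
  have e8 := h _ (List.getElem_mem (l := Ly.extra) (n := 7) (by decide))
  have e9 := h _ (List.getElem_mem (l := Ly.extra) (n := 8) (by decide))
  have e10 := h _ (List.getElem_mem (l := Ly.extra) (n := 9) (by decide))
  have e29 := h _ (List.getElem_mem (l := Ly.extra) (n := 28) (by decide))
  simp only [Ly.extra, List.getElem_cons_succ, List.getElem_cons_zero, map_mul, map_inv,
    map_pow, mul_inv_eq_one] at e6 e7 e8 e9 e10 e29
  have k2 : ψ Ly.c2 = C2 (ψ Ly.a) (ψ Ly.c) := e7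
  have k3 : ψ Ly.c3 = C3 (ψ Ly.b) (ψ Ly.c) := e8
  have k4 : ψ Ly.c4 = C4 (ψ Ly.b) (ψ Ly.c) := e9
  have k5 : ψ Ly.c5 = C5 (ψ Ly.a) (ψ Ly.c) := by rw [e10, e6, k2]; rfl
  have ke : ψ Ly.e = CE (ψ Ly.a) (ψ Ly.b) (ψ Ly.c) (ψ Ly.d) := by rw [e29, e6]; rfl
  refine ⟨⟨?_, ?_, ?_, ?_, ?_, ?_, ?_, ?_, ?_, ?_, ?_, ?_, ?_, ?_, ?_, ?_, ?_, ?_, ?_, ?_, ?_, ?_, ?_, ?_, ?_, ?_, ?_, ?_, ?_, ?_, ?_, ?_, ?_, ?_, ?_, ?_, ?_, ?_⟩, e6, k2, k3, k4, k5, ke⟩
  · have := h _ (List.getElem_mem (l := Ly.extra) (n := 0) (by decide))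
    simpa only [Ly.extra, List.getElem_cons_succ, List.getElem_cons_zero, map_mul, map_inv,
      map_pow, e6, k2, k3, k4, k5, ke] using this
  · have := h _ (List.getElem_mem (l := Ly.extra) (n := 1) (by decide))
    simpa only [Ly.extra, List.getElem_cons_succ, List.getElem_cons_zero, map_mul, map_inv,
      map_pow, e6, k2, k3, k4, k5, ke] using this
  · have := h _ (List.getElem_mem (l := Ly.extra) (n := 2) (by decide))
    simpa only [Ly.extra, List.getElem_cons_succ, List.getElem_cons_zero, map_mul, map_inv,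
      map_pow, e6, k2, k3, k4, k5, ke] using this
  · have := h _ (List.getElem_mem (l := Ly.extra) (n := 3) (by decide))
    simpa only [Ly.extra, List.getElem_cons_succ, List.getElem_cons_zero, map_mul, map_inv,
      map_pow, e6, k2, k3, k4, k5, ke] using this
  · have := h _ (List.getElem_mem (l := Ly.extra) (n := 4) (by decide))
    simpa only [Ly.extra, List.getElem_cons_succ, List.getElem_cons_zero, map_mul, map_inv,
      map_pow, e6, k2, k3, k4, k5, ke] using this
  · have := h _ (List.getElem_mem (l := Ly.extra) (n := 10) (by decide))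
    simpa only [Ly.extra, List.getElem_cons_succ, List.getElem_cons_zero, map_mul, map_inv,
      map_pow, e6, k2, k3, k4, k5, ke] using this
  · have := h _ (List.getElem_mem (l := Ly.extra) (n := 11) (by decide))
    simpa only [Ly.extra, List.getElem_cons_succ, List.getElem_cons_zero, map_mul, map_inv,
      map_pow, e6, k2, k3, k4, k5, ke] using this
  · have := h _ (List.getElem_mem (l := Ly.extra) (n := 12) (by decide))
    simpa only [Ly.extra, List.getElem_cons_succ, List.getElem_cons_zero, map_mul, map_inv,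
      map_pow, e6, k2, k3, k4, k5, ke] using this
  · have := h _ (List.getElem_mem (l := Ly.extra) (n := 13) (by decide))
    simpa only [Ly.extra, List.getElem_cons_succ, List.getElem_cons_zero, map_mul, map_inv,
      map_pow, e6, k2, k3, k4, k5, ke] using this
  · have := h _ (List.getElem_mem (l := Ly.extra) (n := 14) (by decide))
    simpa only [Ly.extra, List.getElem_cons_succ, List.getElem_cons_zero, map_mul, map_inv,
      map_pow, e6, k2, k3, k4, k5, ke] using this
  · have := h _ (List.getElem_mem (l := Ly.extra) (n := 15) (by decide))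
    simpa only [Ly.extra, List.getElem_cons_succ, List.getElem_cons_zero, map_mul, map_inv,
      map_pow, e6, k2, k3, k4, k5, ke] using this
  · have := h _ (List.getElem_mem (l := Ly.extra) (n := 16) (by decide))
    simpa only [Ly.extra, List.getElem_cons_succ, List.getElem_cons_zero, map_mul, map_inv,
      map_pow, e6, k2, k3, k4, k5, ke] using this
  · have := h _ (List.getElem_mem (l := Ly.extra) (n := 17) (by decide))
    simpa only [Ly.extra, List.getElem_cons_succ, List.getElem_cons_zero, map_mul, map_inv,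
      map_pow, e6, k2, k3, k4, k5, ke] using this
  · have := h _ (List.getElem_mem (l := Ly.extra) (n := 18) (by decide))
    simpa only [Ly.extra, List.getElem_cons_succ, List.getElem_cons_zero, map_mul, map_inv,
      map_pow, e6, k2, k3, k4, k5, ke] using this
  · have := h _ (List.getElem_mem (l := Ly.extra) (n := 19) (by decide))
    simpa only [Ly.extra, List.getElem_cons_succ, List.getElem_cons_zero, map_mul, map_inv,
      map_pow, e6, k2, k3, k4, k5, ke] using this
  · have := h _ (List.getElem_mem (l := Ly.extra) (n := 20) (by decide))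
    simpa only [Ly.extra, List.getElem_cons_succ, List.getElem_cons_zero, map_mul, map_inv,
      map_pow, e6, k2, k3, k4, k5, ke] using this
  · have := h _ (List.getElem_mem (l := Ly.extra) (n := 21) (by decide))
    simpa only [Ly.extra, List.getElem_cons_succ, List.getElem_cons_zero, map_mul, map_inv,
      map_pow, e6, k2, k3, k4, k5, ke] using this
  · have := h _ (List.getElem_mem (l := Ly.extra) (n := 22) (by decide))
    simpa only [Ly.extra, List.getElem_cons_succ, List.getElem_cons_zero, map_mul, map_inv,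
      map_pow, e6, k2, k3, k4, k5, ke] using this
  · have := h _ (List.getElem_mem (l := Ly.extra) (n := 23) (by decide))
    simpa only [Ly.extra, List.getElem_cons_succ, List.getElem_cons_zero, map_mul, map_inv,
      map_pow, e6, k2, k3, k4, k5, ke] using this
  · have := h _ (List.getElem_mem (l := Ly.extra) (n := 24) (by decide))
    simpa only [Ly.extra, List.getElem_cons_succ, List.getElem_cons_zero, map_mul, map_inv,
      map_pow, e6, k2, k3, k4, k5, ke] using this
  · have := h _ (List.getElem_mem (l := Ly.extra) (n := 25) (by decide))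
    simpa only [Ly.extra, List.getElem_cons_succ, List.getElem_cons_zero, map_mul, map_inv,
      map_pow, e6, k2, k3, k4, k5, ke] using this
  · have := h _ (List.getElem_mem (l := Ly.extra) (n := 26) (by decide))
    simpa only [Ly.extra, List.getElem_cons_succ, List.getElem_cons_zero, map_mul, map_inv,
      map_pow, e6, k2, k3, k4, k5, ke] using this
  · have := h _ (List.getElem_mem (l := Ly.extra) (n := 27) (by decide))
    simpa only [Ly.extra, List.getElem_cons_succ, List.getElem_cons_zero, map_mul, map_inv,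
      map_pow, e6, k2, k3, k4, k5, ke] using this
  · have := h _ (List.getElem_mem (l := Ly.extra) (n := 29) (by decide))
    simpa only [Ly.extra, List.getElem_cons_succ, List.getElem_cons_zero, map_mul, map_inv,
      map_pow, e6, k2, k3, k4, k5, ke] using this
  · have := h _ (List.getElem_mem (l := Ly.extra) (n := 30) (by decide))
    simpa only [Ly.extra, List.getElem_cons_succ, List.getElem_cons_zero, map_mul, map_inv,
      map_pow, e6, k2, k3, k4, k5, ke] using this
  · have := h _ (List.getElem_mem (l := Ly.extra) (n := 31) (by decide))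
    simpa only [Ly.extra, List.getElem_cons_succ, List.getElem_cons_zero, map_mul, map_inv,
      map_pow, e6, k2, k3, k4, k5, ke] using this
  · have := h _ (List.getElem_mem (l := Ly.extra) (n := 32) (by decide))
    simpa only [Ly.extra, List.getElem_cons_succ, List.getElem_cons_zero, map_mul, map_inv,
      map_pow, e6, k2, k3, k4, k5, ke] using this
  · have := h _ (List.getElem_mem (l := Ly.extra) (n := 33) (by decide))
    simpa only [Ly.extra, List.getElem_cons_succ, List.getElem_cons_zero, map_mul, map_inv,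
      map_pow, e6, k2, k3, k4, k5, ke] using this
  · have := h _ (List.getElem_mem (l := Ly.extra) (n := 34) (by decide))
    simpa only [Ly.extra, List.getElem_cons_succ, List.getElem_cons_zero, map_mul, map_inv,
      map_pow, e6, k2, k3, k4, k5, ke] using this
  · have := h _ (List.getElem_mem (l := Ly.extra) (n := 35) (by decide))
    simpa only [Ly.extra, List.getElem_cons_succ, List.getElem_cons_zero, map_mul, map_inv,
      map_pow, e6, k2, k3, k4, k5, ke] using this
  · have := h _ (List.getElem_mem (l := Ly.extra) (n := 36) (by decide))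
    simpa only [Ly.extra, List.getElem_cons_succ, List.getElem_cons_zero, map_mul, map_inv,
      map_pow, e6, k2, k3, k4, k5, ke] using this
  · have := h _ (List.getElem_mem (l := Ly.extra) (n := 37) (by decide))
    simpa only [Ly.extra, List.getElem_cons_succ, List.getElem_cons_zero, map_mul, map_inv,
      map_pow, e6, k2, k3, k4, k5, ke] using this
  · have := h _ (List.getElem_mem (l := Ly.extra) (n := 38) (by decide))
    simpa only [Ly.extra, List.getElem_cons_succ, List.getElem_cons_zero, map_mul, map_inv,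
      map_pow, e6, k2, k3, k4, k5, ke] using this
  · have := h _ (List.getElem_mem (l := Ly.extra) (n := 39) (by decide))
    simpa only [Ly.extra, List.getElem_cons_succ, List.getElem_cons_zero, map_mul, map_inv,
      map_pow, e6, k2, k3, k4, k5, ke] using this
  · have := h _ (List.getElem_mem (l := Ly.extra) (n := 40) (by decide))
    simpa only [Ly.extra, List.getElem_cons_succ, List.getElem_cons_zero, map_mul, map_inv,
      map_pow, e6, k2, k3, k4, k5, ke] using this
  · have := h _ (List.getElem_mem (l := Ly.extra) (n := 41) (by decide))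
    simpa only [Ly.extra, List.getElem_cons_succ, List.getElem_cons_zero, map_mul, map_inv,
      map_pow, e6, k2, k3, k4, k5, ke] using this
  · have := h _ (List.getElem_mem (l := Ly.extra) (n := 42) (by decide))
    simpa only [Ly.extra, List.getElem_cons_succ, List.getElem_cons_zero, map_mul, map_inv,
      map_pow, e6, k2, k3, k4, k5, ke] using this
  · have := h _ (List.getElem_mem (l := Ly.extra) (n := 43) (by decide))
    simpa only [Ly.extra, List.getElem_cons_succ, List.getElem_cons_zero, map_mul, map_inv,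
      map_pow, e6, k2, k3, k4, k5, ke] using this

end Cfsg.Agent.Lib.LyH
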